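import Cfsg.Agent.HS.SC

/-! Strongly self-centralizing subgroups: exceptional characters. -/

set_option autoImplicit false
set_option linter.unusedSectionVars false
set_option linter.unusedVariables false

namespace SCS

open Cfsg H4 BS
open FT hiding Lam
open Subgroup hiding one
open scoped Classical ComplexConjugate

theorem pq_num {ι κ : Type*} [DecidableEq ι] (L : Finset κ) (C : ι → Prop) (p q μ : κ → ι) {ε : ℤ}
    (hε : ε = 1 ∨ ε = -1) (h1 : ∀ l ∈ L, C (p l) ∧ C (q l) ∧ p l ≠ q l)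
    (h2 : ∀ χ, C χ → ∀ l ∈ L, ∀ l' ∈ L, ((if χ = p l' then 1 else 0) - if χ = q l' then 1 else 0) -
      ((if χ = p l then 1 else 0) - if χ = q l then 1 else 0) =
      ε * ((if χ = μ l then 1 else 0) - if χ = μ l' then 1 else 0)) :
    (∀ l ∈ L, ∀ l' ∈ L, p l = p l') ∨ ∀ l ∈ L, ∀ l' ∈ L, q l = q l' := by
  have h3 : ∀ l ∈ L, ∀ l' ∈ L, p l ≠ p l' → q l = q l' := fun l hl l' hl' e1 => by
    by_contra e2
    have a1 := h2 _ (h1 l hl).1 l hl l' hl'
    have a2 := h2 _ (h1 l' hl').2.1 l hl l' hl'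
    rw [if_neg e1, if_pos rfl, if_neg (h1 l hl).2.2] at a1
    rw [if_neg (h1 l' hl').2.2.symm, if_pos rfl, if_neg (Ne.symm e2)] at a2
    by_cases e3 : p l = q l'
    · rw [if_pos e3] at a1
      rcases hε with rfl | rfl <;> split_ifs at a1 <;> omega
    · rw [if_neg e3] at a1
      rw [if_neg (Ne.symm e3)] at a2
      rcases hε with rfl | rfl <;> split_ifs at a1 a2 <;> first | omega | simp_all
  refine or_iff_not_imp_left.2 fun hc => ?_
  push Not at hc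
  obtain ⟨a, ha, b, hb, e⟩ := hc
  have h4 : ∀ l ∈ L, q l = q a := fun l hl => by
    by_cases e1 : p l = p a
    · rw [h3 l hl b hb (e1 ▸ e), h3 a ha b hb e]
    · exact h3 l hl a ha e1
  exact fun l hl l' hl' => (h4 l hl).trans (h4 l' hl').symm

variable {G : Type*} [Group G] [Fintype G] {A B C K : Subgroup G} {a g s t x y : G}
  {l m χ θ : G → ℂ} {ν : (G → ℂ) → G → ℂ} {δ : ℤ}

noncomputable def dd (K : Subgroup G) (l χ : G → ℂ) : ℤ := iz K χ (one K) - iz K χ l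

noncomputable def eta (K : Subgroup G) (l : G → ℂ) : G → ℂ := ind K ⊤ (one K - l)

theorem vchr_eta (hl : Irr K l) : VChr ⊤ (eta K l) := ((vchr_one K).sub hl.vchr).ind le_top

theorem ip_eta (hl : Irr K l) (hχ : Irr ⊤ χ) : ip ⊤ (eta K l) χ = dd K l χ := by
  rw [(vchr_eta hl).ip_comm hχ.vchr, eta, ip_ind_right le_top _ hχ.cf, ip_sub_right, dd,
    Int.cast_sub, iz_eq hχ.vchr le_top hl.vchr, iz_eq hχ.vchr le_top (vchr_one K)]

theorem ip_one_top (hl : Irr K l) : ip K (one ⊤) l = if l = one K then 1 else 0 := by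
  rw [← ip_res_left, res_one_eq le_top, (irr_one K).ip_eq hl]; simp [eq_comm]

theorem dd_one (hl : l ∈ Lam K) : dd K l (one ⊤) = 1 := by
  rw [dd, iz_of_eq (n := 1) (by rw [ip_one_top (irr_one K)]; simp),
    iz_of_eq (n := 0) (by rw [ip_one_top (mem_Lam.1 hl).2, if_neg (mem_Lam.1 hl).1]; simp)]
  rfl

theorem sum_eta (hl : l ∈ Lam K) : ∑ x, eta K l x = Nat.card G := by
  have := ip_eta (mem_Lam.1 hl).2 (irr_one ⊤)
  rw [dd_one hl, ip_eq_sum_univ (on_top _), one_top, card_top,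
    inv_mul_eq_iff_eq_mul₀ H8.card_ne_zero_complex] at this
  simpa using this

namespace SC
variable (h : SC K)
include h

theorem eta_ncl (hl : Irr K l) (hx : ¬ Cl K x) : eta K l x = 0 :=
  ind_ncl (fun _ => by rw [Pi.sub_apply, one_one, hl.apply_one_of_comm h.comm, sub_self]) hx

theorem const (hχ : Irr ⊤ χ) (hc : ∀ l ∈ Lam K, ∀ l' ∈ Lam K, iz K χ l = iz K χ l')
    (hl : l ∈ Lam K) : (∀ x, Cl K x → χ x = dd K l χ) ∧
      χ 1 = dd K l χ + iz K χ l * Nat.card K := by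
  have h1 : ∀ x ∈ K, χ x = dd K l χ + iz K χ l * ∑ m ∈ irrs K, m x * m 1 := fun x hx => by
    rw [← res_of_mem (K := K) χ hx, (hχ.cf.res le_top).apply_eq_sum,
      ← Finset.add_sum_erase _ _ (mem_irrs.2 (irr_one K)),
      ← Finset.add_sum_erase _ _ (mem_irrs.2 (irr_one K)), Finset.sum_congr (s₁ := Lam K) rfl
        (g := fun m => iz K χ l * (m x * m 1)) fun m hm => by
          rw [ip_res_left, ← iz_eq hχ.vchr le_top (mem_Lam.1 hm).2.vchr, hc m hm l hl,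
            (mem_Lam.1 hm).2.apply_one_of_comm h.comm, mul_one], ← Finset.mul_sum, ip_res_left,
      ← iz_eq hχ.vchr le_top (vchr_one K), one_of_mem hx, one_one, dd]
    push_cast; ring
  refine ⟨fun x ⟨x1, g, hg⟩ => ?_, by rw [h1 1 (one_mem K), sum_degree_sq]⟩
  rw [← hχ.cf.cnj g (mem_top g), h1 _ hg, sum_mul_degree (conj_ne_one x1)]; simp

theorem exists_pq (he : ee K = 2) (hl : l ∈ Lam K) : ∃ p q, Irr ⊤ p ∧ Irr ⊤ q ∧ p ≠ q ∧
    p ≠ one ⊤ ∧ q ≠ one ⊤ ∧ eta K l = one ⊤ + (p - q) := by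
  have h1 := (mem_Lam.1 hl).2
  have h2 : nrm ⊤ (eta K l) = 3 := by
    have := h.tik.sum_sq hl
    rw [nrm_eq_re, ip_eq_sum_sq (vchr_eta h1), Finset.sum_congr rfl fun χ hχ => by
      rw [iz_of_eq (ip_eta h1 (mem_irrs.1 hχ)), dd], this, show K.relIndex (Nor K) = 2 from he]
    norm_num
  have h3 : ip ⊤ (eta K l) (one ⊤) = 1 := by rw [ip_eta h1 (irr_one ⊤), dd_one hl]; simp
  obtain ⟨a, b, ha, hb, h4, h5⟩ := ((vchr_eta h1).sub (vchr_one ⊤)).norm_two (by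
    rw [nrm_sub, h2, h3, (irr_one ⊤).nrm]; norm_num)
  have h6 : a 1 + b 1 = -1 := by
    have := congrFun h5 1
    rw [Pi.sub_apply, h.eta_ncl h1 (fun e => e.1 rfl), one_one] at this
    simpa using this.symm
  have key : ∀ p q, Irr ⊤ p → Irr ⊤ q → p ≠ q → eta K l - one ⊤ = p - q → ∃ p q, Irr ⊤ p ∧
      Irr ⊤ q ∧ p ≠ q ∧ p ≠ one ⊤ ∧ q ≠ one ⊤ ∧ eta K l = one ⊤ + (p - q) := fun p q hp hq e k => by
    have k1 : ip ⊤ (p - q) (one ⊤) = 0 := by rw [← k, ip_sub_left, h3, ip_one_one, sub_self]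
    rw [ip_sub_left, hp.ip_eq (irr_one ⊤), hq.ip_eq (irr_one ⊤)] at k1
    exact ⟨p, q, hp, hq, e, fun e1 => by simp [e1, (e1 ▸ e).symm] at k1,
      fun e1 => by simp [e1, (e1 ▸ e)] at k1, by rw [← k]; ring⟩
  rcases ha with ha | ha <;> rcases hb with hb | hb
  · obtain ⟨i, -, e1⟩ := ha.apply_one
    obtain ⟨j, -, e2⟩ := hb.apply_one
    rw [e1, e2] at h6
    norm_cast at h6
  · exact key a (-b) ha hb (fun e => by
      rw [← neg_neg b, ← e, ip_neg_right, ha.ip_self] at h4; simp at h4) (by rw [h5]; ring)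
  · exact key b (-a) hb ha (fun e => by
      rw [← neg_neg a, ← e, ip_neg_left, hb.ip_self] at h4; simp at h4) (by rw [h5]; ring)
  · obtain ⟨i, i0, e1⟩ := ha.apply_one
    obtain ⟨j, j0, e2⟩ := hb.apply_one
    have : (i : ℂ) + j = 1 := by rw [← e1, ← e2]; simp only [Pi.neg_apply]; linear_combination -h6
    norm_cast at this
    omega

end SC

/-- the exceptional characters for index `2` -/
structure Ex (A : Subgroup G) (θ : G → ℂ) (ν : (G → ℂ) → G → ℂ) (δ : ℤ) : Prop where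
  sc : SC A
  e2 : ee A = 2
  n5 : 5 ≤ Nat.card A
  sg : δ = 1 ∨ δ = -1
  iθ : Irr ⊤ θ
  θ1 : θ ≠ one ⊤
  iν : ∀ l ∈ Lam A, Irr ⊤ (ν l)
  ν1 : ∀ l ∈ Lam A, ν l ≠ one ⊤
  νθ : ∀ l ∈ Lam A, ν l ≠ θ
  eq : ∀ l ∈ Lam A, eta A l = one ⊤ + (δ : ℂ) • (θ - ν l)
  card : Nat.card A ≤ 2 * ((Lam A).image ν).card + 1

theorem SC.lam (h : SC K) (h1 : 1 < Nat.card K) : ∃ l, l ∈ Lam K :=
  Finset.card_pos.1 (by have := h.tik.card_Lam; omega)

theorem SC.exists_ex (h : SC A) (he : ee A = 2) (h1 : 5 ≤ Nat.card A) : ∃ θ ν δ, Ex A θ ν δ := by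
  choose! p q hp hq pq p1 q1 e using fun l (hl : l ∈ Lam A) => h.exists_pq he hl
  obtain ⟨μ, ε, hε, h2, h3, -, h4⟩ := h.tik.exc
  have h5 : ∀ χ, Irr ⊤ χ → ∀ l ∈ Lam A, ∀ l' ∈ Lam A,
      ((if χ = p l' then 1 else 0) - if χ = q l' then 1 else 0) -
      ((if χ = p l then 1 else 0) - if χ = q l then 1 else 0) =
      ε * ((if χ = μ l then 1 else 0) - if χ = μ l' then 1 else 0) := fun χ hχ l hl l' hl' => by
    rw [← h4 χ hχ l hl l' hl', show iz A χ l - iz A χ l' = dd A l' χ - dd A l χ by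
      simp only [dd]; ring]
    apply Int.cast_injective (α := ℂ)
    rw [Int.cast_sub (dd A l' χ), ← ip_eta (mem_Lam.1 hl).2 hχ, ← ip_eta (mem_Lam.1 hl').2 hχ,
      e l hl, e l' hl']
    simp only [ip_add_left, ip_sub_left, (hp l hl).ip_eq hχ, (hp l' hl').ip_eq hχ,
      (hq l hl).ip_eq hχ, (hq l' hl').ip_eq hχ]
    simp [eq_comm]
  have h6 : ∀ ν : (G → ℂ) → G → ℂ,
      (∀ l ∈ Lam A, ∀ l' ∈ Lam A, ν l = ν l' → p l = p l' ∧ q l = q l') → Nat.card A ≤ 2 * ((Lam A).image ν).card + 1 := fun ν hν => by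
    rw [← h.tik.card_Lam, Nat.add_le_add_iff_right]
    refine Finset.card_le_mul_card_image _ 2 fun a ha => ?_
    obtain ⟨l, hl, rfl⟩ := Finset.mem_image.1 ha
    rw [← he, ee, ← h3 l hl]
    refine Finset.card_le_card fun l' hl' => ?_
    obtain ⟨hl', e1⟩ := Finset.mem_filter.1 hl'
    have k := h5 _ (h2 l hl) l hl l' hl'
    rw [(hν l' hl' l hl e1).1, (hν l' hl' l hl e1).2, sub_self, if_pos rfl] at k
    refine Finset.mem_filter.2 ⟨hl', by_contra fun e2 => ?_⟩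
    rw [if_neg (Ne.symm e2)] at k
    omega
  obtain ⟨l, hl⟩ := h.lam (by omega)
  rcases pq_num (Lam A) (Irr ⊤) p q μ hε (fun l hl => ⟨hp l hl, hq l hl, pq l hl⟩) h5 with k | k
  · exact ⟨p l, q, 1, h, he, h1, Or.inl rfl, hp l hl, p1 l hl, hq, q1,
      fun m hm => k m hm l hl ▸ (pq m hm).symm, fun m hm => by simp [e m hm, k m hm l hl],
      h6 q fun m hm m' hm' e => ⟨k m hm m' hm', e⟩⟩
  · exact ⟨q l, p, -1, h, he, h1, Or.inr rfl, hq l hl, q1 l hl, hp, p1,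
      fun m hm => k m hm l hl ▸ pq m hm, fun m hm => by simp [e m hm, k m hm l hl],
      h6 p fun m hm m' hm' e => ⟨e, k m hm m' hm'⟩⟩

end SCS
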