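import Cfsg.Agent.HS.Sys

/-! The self-centralization system of type `(2, 4, 4)`: the involutions. -/

set_option autoImplicit false
set_option linter.unusedSectionVars false
set_option linter.unusedVariables false

namespace SCS

open Cfsg H4 BS
open FT hiding Lam
open Subgroup hiding one
open IT (ix)
open scoped Classical ComplexConjugate

variable {G : Type*} [Group G] [Fintype G] {A B C K : Subgroup G} {a g r s t x y : G}
  {l m m' χ θ : G → ℂ} {ν : (G → ℂ) → G → ℂ} {δ : ℤ}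

/-- the involutions commuting with `x` -/
noncomputable def IC (x : G) : Finset G := (II G).filter (· ∈ Cen1 x)

theorem mem_IC : s ∈ IC x ↔ BS.Inv s ∧ s ∈ Cen1 x := by simp [IC, mem_II]

/-- the involutions whose product with `s` is a zero of `θ` -/
noncomputable def UU (δ : ℤ) (θ : G → ℂ) (s : G) : Finset G :=
  (II G).filter fun r => s * r = 1 ∨ th δ θ (s * r) = 0

namespace Sys
variable [IsSimpleGroup G] (h : Sys A B C θ ν δ t)
include h

theorem val (h1 : x ≠ 1) (h2 : ¬ Cl A x) : th δ θ x = 0 ∨ th δ θ x = -1 := by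
  have k := h.sum_T'
  rw [← h.data.2.2.2.2.1, sub_self, mul_eq_zero, or_iff_right (Nat.cast_ne_zero.2 Nat.card_pos.ne'),
    Finset.sum_eq_zero_iff_of_nonneg fun x _ => by
      nlinarith [sq_nonneg (2 * th δ θ x + 1), Int.even_mul_succ_self (th δ θ x)]] at k
  have := mul_eq_zero.1 (k x (by simpa using ⟨h1, h2⟩))
  omega

theorem sumNθ : ∑ x, (Np x : ℤ) * th δ θ x = 0 := by
  have k := h.pair_θ t
  rw [h.cls, ← sum_Np, h.data.2.2.2.1] at k
  simpa [(h.dvd1 1).1] using k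

theorem cen_dvd1 (h1 : th δ θ x = 1 ∨ th δ θ x = -1) :
    (Nat.card (Cen1 x) : ℤ) ∣ Nat.card A * (th δ θ 1 + 1) := by
  obtain ⟨r, hr⟩ : th δ θ 1 ∣ ix x := by
    have := (h.dvd1 x).2.2
    rcases h1 with e | e <;> simpa [e] using this
  have k : (Nat.card (Cen1 x) : ℤ) * ix x = Nat.card G := by exact_mod_cast IT.card_mul_ix x
  exact ⟨r, mul_left_cancel₀ (h.dvd1 1).1 (by
    linear_combination (Nat.card (Cen1 x) : ℤ) * hr - k - h.data.2.2.2.2.1)⟩

theorem cen_dvd2 (h0 : x ≠ 1) (h1 : th δ θ x = 0) : (Nat.card (Cen1 x) : ℤ) ∣ th δ θ 1 := by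
  have h2 : ¬ Cl A x := fun e => by simp [h.cst.1 x e] at h1
  obtain ⟨r, hr⟩ : th δ θ 1 + 1 ∣ ix x := by simpa [h1] using (h.dvd2 h2).2.2
  have k : (Nat.card (Cen1 x) : ℤ) * ix x = Nat.card G := by exact_mod_cast IT.card_mul_ix x
  refine (Nat.isCoprime_iff_coprime.2 (h.sc.cop h0 h2)).dvd_of_dvd_mul_left
    ⟨r, mul_left_cancel₀ (h.dvd2 h2).1 ?_⟩
  linear_combination (Nat.card (Cen1 x) : ℤ) * hr - k - h.data.2.2.2.2.1

theorem dvdB {K f : ℤ} (e1 : th δ θ 1 + 1 = -K * (Nat.card B * Nat.card C))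
    (e2 : f * Nat.card A = K * (Nat.card B * Nat.card C) + 2) :
    (Nat.card B : ℤ) ∣ K * (Nat.card B + Nat.card C) - 2 * f := by
  obtain ⟨i, i1, p, i2⟩ := h.congB
  have u0 : (Nat.card B : ℤ) ≠ 0 := Nat.cast_ne_zero.2 Nat.card_pos.ne'
  refine (h.sc.cop' h.hB h.dB h.u5).dvd_of_dvd_mul_left ⟨p + Nat.card A * K - 2 * K * Nat.card C -
    Nat.card A * K * K * Nat.card C * Nat.card C, mul_left_cancel₀ u0 ?_⟩
  linear_combination Nat.card B * i2 - i1 - h.data.2.2.2.2.1 - 2 * Nat.card B * e2 -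
    Nat.card A * (th δ θ 1 - K * (Nat.card B * Nat.card C)) * e1

theorem a_pos : 0 < th δ θ 1 := by
  by_contra hc
  obtain ⟨a1, a2, ⟨κ, hκ⟩, -, a3, a4⟩ := h.data
  obtain ⟨K, rfl⟩ : ∃ K, κ = -K := ⟨-κ, by simp⟩
  obtain ⟨i, hi⟩ := h.cst.2
  obtain ⟨u4, u9, -⟩ := h.hB.four h.eB h.u5
  obtain ⟨v4, v9, -⟩ := h.hC.four h.eC h.v5
  have e1 : th δ θ 1 + 1 = -K * (Nat.card B * Nat.card C) := by rw [hκ]; ring
  have e2 : -i * Nat.card A = K * (Nat.card B * Nat.card C) + 2 := by linear_combination hi - e1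
  obtain ⟨y, hy⟩ := (h.hB.cop' h.hC h.dCB h.v5).symm.mul_dvd (h.dvdB e1 e2) (by
    rw [add_comm]; exact h.symm.dvdB (by rw [e1, mul_comm (Nat.card B : ℤ)])
      (by rw [e2, mul_comm (Nat.card B : ℤ)]))
  have b0 := h.pos
  have b1 := (h.dvd1 1).1
  have P0 : (0 : ℤ) < Nat.card B * Nat.card C := by positivity
  have K0 : 0 < K := by
    by_contra k
    have := mul_nonneg (show 0 ≤ -K by omega) P0.le
    obtain e : th δ θ 1 = -1 := by omega
    simp [e] at b0
  rw [abs_of_neg (by omega)] at a4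
  have b2 := h.split (fun x => Np x * th δ θ x) (a := Nat.card A) (b := -Nat.card B)
    (c := -Nat.card C)
    (fun x hx => by rw [h.sc.Np_cl h.odd (h.e2 ▸ even_two) hx, h.cst.1 x hx, mul_one])
    (fun x hx => by rw [h.NpB hx, a1 x hx, mul_neg_one])
    fun x hx => by rw [h.symm.NpB hx, a2 x hx, mul_neg_one]
  have b3 := h.split (fun x => th δ θ x ^ 2) (a := 1) (b := 1) (c := 1)
    (fun x hx => by rw [h.cst.1 x hx]; rfl) (fun x hx => by rw [a1 x hx]; rfl)
    fun x hx => by rw [a2 x hx]; rfl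
  have b4 : ∀ x ∈ TT A B C, 0 ≤ -(Np x * th δ θ x) ∧ -(Np x * th δ θ x) ≤ K * th δ θ x ^ 2 :=
    fun x hx => by
      rcases h.val (mem_TT.1 hx).1 (mem_TT.1 hx).2.1 with e | e
      · simp [e]
      have k := h.cen_dvd1 (Or.inr e)
      rw [e1, show (Nat.card A : ℤ) * (-K * (Nat.card B * Nat.card C)) =
        Nat.card A * (Nat.card B * Nat.card C) * -K by ring] at k
      have k1 := Int.le_of_dvd K0 (dvd_neg.1 ((h.copT hx).dvd_of_dvd_mul_left k))
      have k2 := Np_le x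
      simp only [e]
      omega
  have b5 := Finset.sum_nonneg fun x hx => (b4 x hx).1
  have b6 := Finset.sum_le_sum fun x hx => (b4 x hx).2
  rw [← Finset.mul_sum] at b6
  rw [Finset.sum_neg_distrib] at b5 b6
  rw [h.sumNθ, Np_one, h.card_II] at b2
  rw [h.sum_sq] at b3
  have c1 := h.clA
  have c2 := h.clB
  have c3 := h.symm.clB
  have c4 := h.kc
  have c5 := h.bound (j := 1) (by rw [a3]; ring)
  have c6 : (4 : ℤ) ∣ Nat.card (Cen1 t) := by exact_mod_cast h.four_c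
  have g0 : (0 : ℤ) < Nat.card G := by exact_mod_cast Nat.card_pos
  have n5 : (5 : ℤ) ≤ Nat.card A := by exact_mod_cast h.n5
  generalize ∑ x ∈ TT A B C, (Np x : ℤ) * th δ θ x = Z at *
  generalize ∑ x ∈ TT A B C, th δ θ x ^ 2 = Y at *
  generalize (Nat.card A : ℤ) = n at *
  generalize (Nat.card B : ℤ) = u at *
  generalize (Nat.card C : ℤ) = v at *
  generalize (Nat.card G : ℤ) = g at *
  generalize th δ θ 1 = a at *
  have d1 : g * (2 * n - (u + v) - 4) = 4 * -Z := by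
    linear_combination -4 * b2 - 2 * c1 + c2 + c3 + 4 * c4 - 4 * (ix t : ℤ) * a4
  have d2 : g * y = 4 * (K * Y) := by
    refine mul_left_cancel₀ (show n * (u * v) ≠ 0 by positivity) ?_
    linear_combination -n * g * hy - 2 * g * e2 + 4 * K * n * (u * v) * b3 + 2 * K * (u * v) * c1 +
      K * n * v * c2 + K * n * u * c3 + (4 * n * a ^ 2 - 4 * g) * e1 + 4 * a * a3
  refine neg (y := y) n5 u9 v9 u4 v4 K0 ?_ e2 (by rw [hy]; ring) (nonneg_of_mul_nonneg_right ?_ g0)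
    (le_of_mul_le_mul_left ?_ g0) (lt_of_mul_lt_mul_right ?_ (mul_pos P0 P0).le)
  · have k1 : (u * v) % 4 = 1 := by rw [Int.mul_emod, u4, v4]; rfl
    have k2 : (K * (u * v)) % 4 = K % 4 := by rw [Int.mul_emod, k1]; omega
    rw [neg_mul] at e1
    omega
  · linarith
  · linarith
  · obtain rfl : a = -K * (u * v) - 1 := by linarith
    nlinarith [mul_pos K0 P0]

theorem kk : (ix t : ℤ) = Nat.card A * (th δ θ 1 + 1) := by
  obtain ⟨-, -, -, -, a3, a4⟩ := h.data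
  rw [abs_of_pos h.a_pos] at a4
  exact mul_left_cancel₀ h.a_pos.ne' (by linear_combination h.kc + a3 - (ix t : ℤ) * a4)

theorem cc (hs : BS.Inv s) : (Nat.card (Cen1 s) : ℤ) = th δ θ 1 := by
  have k : (Nat.card (Cen1 s) : ℤ) * ix s = Nat.card G := by exact_mod_cast IT.card_mul_ix s
  rw [h.ix_inv hs, ← h.kc, h.data.2.2.2.2.2, abs_of_pos h.a_pos] at k
  exact mul_right_cancel₀ (Nat.cast_ne_zero.2 (IT.ix_pos t).ne') k

theorem card_zero : ((Finset.univ.filter fun x => th δ θ x = 0).card : ℤ) = th δ θ 1 ^ 2 - 1 := by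
  have k := h.sum_sq
  rw [Finset.sum_congr rfl (g := fun x => (if x = 1 then th δ θ 1 ^ 2 - 1 else 0) + 1 -
    if th δ θ x = 0 then 1 else 0) fun x _ => ?_] at k
  · simp only [Finset.sum_sub_distrib, Finset.sum_add_distrib, Finset.sum_ite_eq', Finset.mem_univ,
      if_true, Finset.sum_boole, Finset.sum_const, Finset.card_univ, nsmul_eq_mul,
      ← Nat.card_eq_fintype_card] at k
    linarith
  by_cases e : x = 1
  · simp [e, (h.dvd1 1).1]
  by_cases e1 : Cl A x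
  · simp [e, h.cst.1 x e1]
  · rcases h.val e e1 with e2 | e2 <;> simp [e, e2]

theorem card_UU (hs : BS.Inv s) : (UU δ θ s).card = Nat.card A := by
  have h1 : ∀ s ∈ II G, (UU δ θ s).card = (UU δ θ t).card := fun s hs => by
    obtain ⟨g, -, rfl⟩ := mem_cob.1 (h.cls ▸ hs)
    refine Finset.card_bij' (fun s _ => g⁻¹ * s * g⁻¹⁻¹) (fun s _ => g * s * g⁻¹) (fun s hs => ?_)
      (fun s hs => ?_) (fun _ _ => by group) fun _ _ => by group
    · simp only [UU, Finset.mem_filter, mem_II] at hs ⊢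
      rw [show t * (g⁻¹ * s * g⁻¹⁻¹) = g⁻¹ * (g * t * g⁻¹ * s) * g⁻¹⁻¹ by group, h.th_conj,
        conj_eq_one_iff]
      exact ⟨hs.1.conj _, hs.2⟩
    · simp only [UU, Finset.mem_filter, mem_II] at hs ⊢
      rw [conj_mul, h.th_conj, conj_eq_one_iff]
      exact ⟨hs.1.conj _, hs.2⟩
  have h2 := sum_Np (G := G) fun x => if x = 1 ∨ th δ θ x = 0 then (1 : ℤ) else 0
  rw [Finset.sum_congr (s₁ := II G) rfl (g := fun _ => ((UU δ θ t).card : ℤ)) fun s hs => by
    rw [← h1 s hs, Finset.sum_boole, UU], Finset.sum_const, h.card_II,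
    Finset.sum_congr rfl (g := fun x => Np x + Np x * th δ θ x -
      (if Cl A x then 2 * (Nat.card A : ℤ) else 0) - if x = 1 then ix t * th δ θ 1 else 0) fun x _ => ?_] at h2
  · simp only [Finset.sum_sub_distrib, Finset.sum_add_distrib, Finset.sum_ite_eq', Finset.mem_univ,
      if_true, h.sumN, h.sumNθ, ← Finset.sum_filter, Finset.sum_const, nsmul_eq_mul] at h2
    rw [h1 s (mem_II.2 hs), ← Nat.cast_inj (R := ℤ)]
    refine mul_left_cancel₀ (Nat.cast_ne_zero.2 (IT.ix_pos t).ne') ?_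
    have k := h.kc
    rw [h.cc h.ht] at k
    rw [← cl] at h2
    linear_combination -h.clA - h2 + (ix t : ℤ) * h.kk + (Nat.card A - 1 : ℤ) * k
  by_cases e : x = 1
  · simp [e, Cl, Np_one, h.card_II]
  by_cases e1 : Cl A x
  · simp [e, e1, h.cst.1 x e1, h.sc.Np_cl h.odd (h.e2 ▸ even_two) e1, two_mul]
  · rcases h.val e e1 with e2 | e2 <;> simp [e, e1, e2]

theorem vals (h1 : x ≠ 1) : th δ θ x = 0 ∨ th δ θ x = 1 ∨ th δ θ x = -1 := by
  by_cases e1 : Cl A x
  · simp [h.cst.1 x e1]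
  · have := h.val h1 e1
    omega

theorem cop_a : IsCoprime (th δ θ 1) (Nat.card A * (th δ θ 1 + 1)) := by
  obtain ⟨i, hi⟩ := h.cst.2
  exact IsCoprime.mul_right ⟨1, -i, by linear_combination hi⟩ ⟨-1, 1, by ring⟩

theorem zero_of (h1 : x ≠ 1) (hy : y ∈ Cen1 x) (h2 : y ≠ 1) (h3 : (orderOf y : ℤ) ∣ th δ θ 1) :
    th δ θ x = 0 := (h.vals h1).resolve_right fun e => h2 (by
  have := Int.isUnit_iff.1 (h.cop_a.isUnit_of_dvd' h3 (dvd_trans (Int.natCast_dvd_natCast.2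
    (Subgroup.orderOf_dvd_natCard _ hy)) (h.cen_dvd1 e)))
  exact orderOf_eq_one_iff.1 (by omega))

theorem zero_of_inv (h1 : x ≠ 1) (hs : s ∈ IC x) : th δ θ x = 0 := by
  obtain ⟨hs, e⟩ := mem_IC.1 hs
  exact h.zero_of h1 e hs.1 (h.cc hs ▸ Int.natCast_dvd_natCast.2
    (Subgroup.orderOf_dvd_natCard _ (IT.self_mem s)))

theorem IC_sub (h1 : x ≠ 1) (hs : s ∈ IC x) : IC x ⊆ UU δ θ s := fun r hr =>
  Finset.mem_filter.2 ⟨(Finset.mem_filter.1 hr).1, or_iff_not_imp_left.2 fun e =>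
    h.zero_of e (IT.c1_symm (mul_mem (mem_IC.1 hs).2 (mem_IC.1 hr).2)) h1 (dvd_trans
      (Int.natCast_dvd_natCast.2 (Subgroup.orderOf_dvd_natCard _ (IT.self_mem x)))
      (h.cen_dvd2 h1 (h.zero_of_inv h1 hs)))⟩

theorem card_IC (hs : BS.Inv s) : (IC s).card = Nat.card A := by
  have h1 : ∀ x ∈ Finset.univ.erase (1 : G), ((IC x).card : ℤ) ≤
      if th δ θ x = 0 then (Nat.card A : ℤ) else 0 := fun x hx => by
    rcases (IC x).eq_empty_or_nonempty with e | ⟨s, hs⟩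
    · rw [e]; split_ifs <;> simp
    · rw [if_pos (h.zero_of_inv (Finset.ne_of_mem_erase hx) hs), ← h.card_UU (mem_IC.1 hs).1]
      exact_mod_cast Finset.card_le_card (h.IC_sub (Finset.ne_of_mem_erase hx) hs)
  have h2 : ∑ x : G, ((IC x).card : ℤ) = ix t * th δ θ 1 := by
    simp only [IC, Finset.card_filter, Nat.cast_sum]
    rw [Finset.sum_comm, ← h.card_II, ← nsmul_eq_mul, ← Finset.sum_const]
    refine Finset.sum_congr rfl fun s hs => ?_
    rw [← h.cc (mem_II.1 hs), ← card_filter_mem, Finset.card_filter, Nat.cast_sum]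
    exact Finset.sum_congr rfl fun x _ => by rw [if_congr ⟨IT.c1_symm, IT.c1_symm⟩ rfl rfl]
  have h3 := (Finset.sum_eq_sum_iff_of_le h1).1 (by
    rw [Finset.sum_erase_eq_sub (Finset.mem_univ _), Finset.sum_erase_eq_sub (Finset.mem_univ _),
      h2, if_neg (h.dvd1 1).1, ← Finset.sum_filter, Finset.sum_const, nsmul_eq_mul, h.card_zero,
      IC, Finset.filter_true_of_mem fun s _ => c1_iff.2 (by simp), h.card_II, h.kk]
    ring) s (by simpa using hs.1)
  rw [if_pos (h.zero_of_inv hs.1 (mem_IC.2 ⟨hs, IT.self_mem s⟩))] at h3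
  exact_mod_cast h3

theorem IC_eq (hs : BS.Inv s) (hr : r ∈ IC s) : IC s = IC r := by
  have h1 : ∀ r, BS.Inv r → IC r = UU δ θ r := fun r hr => Finset.eq_of_subset_of_card_le
    (h.IC_sub hr.1 (mem_IC.2 ⟨hr, IT.self_mem r⟩)) (by rw [h.card_IC hr, h.card_UU hr])
  rw [h1 r (mem_IC.1 hr).1]
  exact Finset.eq_of_subset_of_card_le (h.IC_sub hs.1 hr)
    (by rw [h.card_IC hs, h.card_UU (mem_IC.1 hr).1])

end Sys

end SCS
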