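import Cfsg.Agent.HS.Fin

/-! The self-centralization system of type `(2, 4, 4)`: identification of the Suzuki groups. -/

set_option autoImplicit false
set_option linter.unusedSectionVars false
set_option linter.unusedVariables false

namespace SCS

open Cfsg H4 BS
open FT hiding Lam
open Subgroup hiding one
open IT (ix)
open scoped Classical

universe u

variable {G : Type u} [Group G] [Fintype G] {A B C : Subgroup G} {r s t : G}
  {θ : G → ℂ} {ν : (G → ℂ) → G → ℂ} {δ : ℤ}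

theorem inv_of_ord {z : G} (h : orderOf z = 2) : BS.Inv z :=
  ⟨IT.ne_one_of_orderOf Nat.prime_two h, by rw [← sq, ← h, pow_orderOf_eq_one]⟩

namespace Sys
variable [IsSimpleGroup G] (h : Sys A B C θ ν δ t)
include h

theorem se : ∃ M : Subgroup G, IsStronglyEmbedded M := by
  obtain ⟨P, hP⟩ := H5.exists_isSylowOf 2 (⊤ : Subgroup G)
  have P0 : P ≠ ⊥ := hP.ne_bot (by rw [card_top]; exact (show 2 ∣ 4 by norm_num).trans h.four_g)
  obtain ⟨z, -, oz, hz⟩ := IT.exists_cen Nat.prime_two hP.isPGroup P0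
  have iz := inv_of_ord oz
  refine ⟨normalizer (IC z : Set G), se_of_sylow (fun e => ?_) hP P0 fun Q hQ Q0 g hg => ?_⟩
  · have h1 : II G ⊆ IC z := fun s hs => by
      obtain ⟨a, -, rfl⟩ := mem_cob.1 (h.cls ▸ hs)
      obtain ⟨b, -, e1⟩ := mem_cob.1 (h.cls ▸ mem_II.2 iz)
      have := (mem_set_normalizer_iff.1 (e.ge (mem_top (a * b⁻¹))) z).1
        (mem_IC.2 ⟨iz, IT.self_mem z⟩)
      rwa [← e1, show a * b⁻¹ * (b * t * b⁻¹) * (a * b⁻¹)⁻¹ = a * t * a⁻¹ by group, e1] at this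
    have h2 := Finset.card_le_card h1
    rw [h.card_II, h.card_IC iz] at h2
    have h3 := h.kk
    have h4 := h.a_pos
    have h5 := h.n5
    nlinarith
  · obtain ⟨y, hy, oy, -⟩ := IT.exists_cen Nat.prime_two (hP.isPGroup.to_le hQ) Q0
    have iy := inv_of_ord oy
    have e1 := h.IC_eq iz (mem_IC.2 ⟨iy, hz (hQ hy)⟩)
    have e2 := h.IC_eq iz (mem_IC.2 ⟨iy.conj g, hz (hQ ((mem_normalizer_iff.1 hg y).1 hy))⟩)
    refine mem_set_normalizer_iff.2 fun x => ?_
    rw [Finset.mem_coe, Finset.mem_coe]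
    nth_rw 1 [e1]
    rw [e2, mem_IC, mem_IC, c1_iff, c1_iff]
    exact mem_Gam_conj.symm

theorem sz (hG : ¬ IsMulCommutative G) : Lie.IsoSuzuki G := by
  obtain ⟨H, hH⟩ := h.se
  obtain ⟨Q, D, t', k, c, e⟩ := IT.exists_hyp hG hH
  obtain ⟨s, hs⟩ := k.toA1.exists_dist
  rcases c.tri s hs with ⟨e1, -⟩ | ⟨-, -, -, m, F, i1, i2, h1, h2, -, h3⟩ |
    ⟨-, -, -, ⟨w, w1, w2, w3⟩, -⟩
  · exfalso
    obtain ⟨R, hR⟩ := H5.exists_isSylowOf 2 (Nor B)
    have ho := (h.hB.four h.eB h.u5).2.2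
    have h4 : 4 ∣ Nat.card R := by
      refine Nat.Coprime.dvd_of_dvd_mul_right (n := R.relIndex (Nor B))
        (Nat.Coprime.pow_left 2 ((Nat.Prime.coprime_iff_not_dvd Nat.prime_two).2 hR.not_dvd)) ?_
      rw [H5.card_mul_relIndex hR.le, ← H5.card_mul_relIndex (le_normalizer (H := B)),
        show B.relIndex (Nor B) = 4 from h.eB]
      exact dvd_mul_left _ _
    obtain ⟨z, hz, oz, hc⟩ := IT.exists_cen Nat.prime_two hR.isPGroup (by
      rintro rfl; simp at h4)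
    have iz := inv_of_ord oz
    obtain ⟨y, hy, y1⟩ : ∃ y ∈ R, y ∉ zpowers z := by
      by_contra! e
      have := Nat.le_of_dvd two_pos (h4.trans (iz.card_zpowers ▸ card_dvd_of_le e))
      omega
    obtain ⟨g, -, hg⟩ := k.toA1.conj_inv_Q (mem_top z) iz.1 iz.2
    have h5 : conjS g R ≤ Q := k.toA1.two_le_Q (fun x hx => k.toA1.cen1_le hg (iz.conj g).1
      ⟨mem_top x, by rw [← conjS_cen1]; exact conjS_mono g hc hx⟩) (hR.isPGroup.map _)
    have h6 : ∀ x ∈ R, x ≠ 1 → BS.Inv x := fun x hx x1 => ⟨x1, by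
      have := k.toA1.Q0_sq k.a3 (e1.ge (h5 (mem_conjS.2 (show g⁻¹ * (g * x * g⁻¹) * g ∈ R by
        simpa [mul_assoc] using hx))))
      rwa [conj_mul, conj_eq_one_iff] at this⟩
    have iy := h6 y hy fun e => y1 (e ▸ one_mem _)
    have iyz := h6 _ (mul_mem hy hz) fun e => y1 (by
      rw [eq_inv_of_mul_eq_one_left e]; exact inv_mem (mem_zpowers z))
    obtain ⟨b, hb, b1⟩ : ∃ x ∈ B, x ≠ 1 := by
      by_contra! e
      have := h.u5
      rw [(eq_bot_iff_forall B).2 e] at this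
      simp at this
    refine iyz.not_mem ho ((h.hB b hb b1).le (c1_iff'.2 ?_))
    calc _ = y * (z * b * z) * y := by rw [mul_inv_rev, iy.inv, iz.inv]; group
      _ = _ := by
        rw [h.hB.inverts ho iz (hR.le hz) hb, h.hB.inverts ho iy (hR.le hy) (inv_mem hb), inv_inv]
  · obtain ⟨f⟩ := k.equiv_of_cquot h3
    exact ⟨F, i1, i2, m, h1, h2, ⟨(topEquiv.symm.trans (MulEquiv.subgroupCongr e.symm)).trans f⟩⟩
  · exfalso
    have is : BS.Inv s := ⟨hs.2.1, hs.2.2.1⟩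
    have h1 : 2 ≤ Nat.card (Vg D t') := (one_lt_card_iff_ne_bot _).2 fun e => w3 (by
      rw [mem_bot.1 (e.le (k.toA1.W_le_V (k.toA1.W_eq.ge ⟨w1, w2⟩)))]; exact one_mem _)
    have h2 : Nat.card Q * Nat.card (Vg D t') ≤ Nat.card (Cen1 s) := by
      rw [← Nat.card_prod]
      refine Nat.card_le_card_of_injective (fun p => ⟨p.1 * p.2, mul_mem
        (c1_iff.2 (k.toA1.inv_comm k.a3 hs.1 is.2 p.1.2)) (c1_iff.2 (k.toA1.V_le_cen hs p.2.2))⟩)
        fun p q e => ?_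
      obtain ⟨e1, e2⟩ := sd_uniq k.sd p.1.2 q.1.2 p.2.2.1 q.2.2.1 (congrArg Subtype.val e)
      exact Prod.ext (Subtype.ext e1) (Subtype.ext e2)
    have h3 : Nat.card (Kg D t') ≤ Nat.card A := by
      rw [← h.card_IC is, ← card_filter_mem]
      refine Finset.card_le_card_of_injOn (fun a => a * s * a⁻¹) (fun a ha => ?_) fun a ha b hb e =>
        k.toA1.K_conj_inj hs.1 is.1 is.2 ((k.toA1.mem_Kg k.a3).1 (by simpa using ha))
          ((k.toA1.mem_Kg k.a3).1 (by simpa using hb)) e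
      exact mem_IC.2 ⟨is.conj a, c1_iff.2 (k.toA1.inv_comm k.a3 hs.1 is.2
        (k.toA1.conj_mem_Q (k.toA1.D_le (A1.Kg_le (by simpa using ha))) hs.1))⟩
    have h4 := k.toA1.card_L
    rw [(k.toA1.sd_KV k.a3).card, card_top] at h4
    have h5 := h.data.2.2.2.2.1
    have h6 := h.a_pos
    have h7 : 0 < Nat.card Q := Nat.card_pos
    have h8 := h.n5
    rw [← h.cc is] at h5 h6
    norm_cast at h5 h6
    generalize Nat.card (Cen1 s) = a at *
    generalize Nat.card Q = q at *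
    have h9 : q + 1 < a + 1 := by nlinarith
    have h10 : (q + 1) * (q * Nat.card (Vg D t') * Nat.card (Kg D t')) ≤
        (q + 1) * (a * Nat.card A) := Nat.mul_le_mul_left _ (Nat.mul_le_mul h2 h3)
    have h11 := Nat.mul_lt_mul_of_pos_right h9 (show 0 < a * Nat.card A by positivity)
    nlinarith

end Sys

theorem main [IsSimpleGroup G] (hG : ¬ IsMulCommutative G) (hA : SC A) (hB : SC B) (hC : SC C)
    (hnc : ∀ g : G, conjS g A ≠ B ∧ conjS g A ≠ C ∧ conjS g B ≠ C) (e1 : ee A = 2) (e2 : ee B = 4)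
    (e3 : ee C = 4) (n1 : 5 ≤ Nat.card A) (n2 : 5 < Nat.card B) (n3 : 5 < Nat.card C)
    (ho : Nat.card G ≤ 3 * Nat.card A ^ 2 * Nat.card B ^ 2 * Nat.card C ^ 2) :
    Lie.IsoSuzuki G := by
  obtain ⟨θ, ν, δ, h⟩ := hA.exists_ex e1 n1
  obtain ⟨t, ht, e⟩ := h.one_class
  have k : ∀ {X Y : Subgroup G}, SC X → SC Y → (∀ g, conjS g X ≠ Y) → ∀ x, Cl Y x → ¬ Cl X x :=
    fun hX hY hn x h1 h2 => by
      obtain ⟨a, ha⟩ := hX.cen_cl h2
      obtain ⟨b, hb⟩ := hY.cen_cl h1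
      exact hn (b * a⁻¹) (by rw [← ha, ← hb, conjS_conjS, inv_mul_cancel_right])
  exact Sys.sz ⟨h, hB, hC, e2, e3, n2, n3, k hA hB fun g => (hnc g).1, k hA hC fun g => (hnc g).2.1,
    k hB hC fun g => (hnc g).2.2, by exact_mod_cast ho, ht, e⟩ hG

end SCS
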