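import Cfsg.Agent.IT.Basic

/-! Strongly self-centralizing subgroups: counting. -/

set_option autoImplicit false
set_option linter.unusedSectionVars false
set_option linter.unusedVariables false

namespace SCS

open Cfsg FT H4 BS
open Subgroup hiding one
open scoped Classical

variable {G : Type*} [Group G] [Fintype G] {K : Subgroup G} {a g s x y : G}

/-- strongly self-centralizing -/
def SC (K : Subgroup G) : Prop := ∀ a ∈ K, a ≠ 1 → Cen1 a = K

/-- conjugate to a nontrivial element of `K` -/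
def Cl (K : Subgroup G) (x : G) : Prop := x ≠ 1 ∧ ∃ g, g * x * g⁻¹ ∈ K

noncomputable def cl (K : Subgroup G) : Finset G := Finset.univ.filter (Cl K)

theorem mem_cl : x ∈ cl K ↔ Cl K x := by simp [cl]

theorem Cl.of_mem (h : x ∈ K) (h1 : x ≠ 1) : Cl K x := ⟨h1, 1, by simpa using h⟩

theorem Cl.conj (h : Cl K x) (g : G) : Cl K (g * x * g⁻¹) := by
  obtain ⟨h1, c, hc⟩ := h
  exact ⟨conj_ne_one h1, c * g⁻¹, H5.mem_of_eq hc (by group)⟩

theorem Cl.of_conj (h : Cl K (g * x * g⁻¹)) : Cl K x := by simpa [mul_assoc] using h.conj g⁻¹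

/-- the index of `K` in its normalizer -/
noncomputable abbrev ee (K : Subgroup G) : ℕ := K.relIndex (Nor K)

/-- the permutation character on the cosets of `K` -/
noncomputable abbrev pc (K : Subgroup G) : G → ℂ := ind K ⊤ (one K)

theorem ind_ncl {f : G → ℂ} (h1 : x = 1 → f 1 = 0) (h : ¬ Cl K x) : ind K ⊤ f x = 0 :=
  ind_apply_eq_zero fun y _ hy => by
    by_cases e : x = 1
    · simpa [e] using h1 e
    · exact (h ⟨e, y⁻¹, by simpa using hy⟩).elim

/-- the involutions -/
noncomputable def II (G : Type*) [Group G] [Fintype G] : Finset G := Finset.univ.filter BS.Inv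

theorem mem_II : x ∈ II G ↔ BS.Inv x := by simp [II]

/-- the number of ways to write `x` as a product of two involutions -/
noncomputable def Np (x : G) : ℕ := ((II G).filter fun s => BS.Inv (s * x)).card

theorem inv_of_inv (h1 : BS.Inv s) (h2 : BS.Inv (s * x)) : s * x * s⁻¹ = x⁻¹ := by
  rw [h1.inv, eq_inv_iff_mul_eq_one, ← h2.2]; group

theorem Np_conj (g x : G) : Np (g * x * g⁻¹) = Np x := by
  refine Finset.card_bij' (fun s _ => g⁻¹ * s * g⁻¹⁻¹) (fun s _ => g * s * g⁻¹) (fun s hs => ?_)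
    (fun s hs => ?_) (fun _ _ => by group) fun _ _ => by group
  · simp only [Finset.mem_filter, mem_II] at hs ⊢
    exact ⟨hs.1.conj _, by convert hs.2.conj g⁻¹ using 1; group⟩
  · simp only [Finset.mem_filter, mem_II] at hs ⊢
    exact ⟨hs.1.conj _, by convert hs.2.conj g using 1; group⟩

theorem Np_one : Np (1 : G) = (II G).card := by
  rw [Np, Finset.filter_true_of_mem fun s hs => by simpa [mem_II] using hs]

theorem Np_le (x : G) : Np x ≤ Nat.card (Cen1 x) := by
  rcases Finset.eq_empty_or_nonempty ((II G).filter fun s => BS.Inv (s * x)) with e | ⟨r, hr⟩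
  · simp [Np, e]
  simp only [Finset.mem_filter, mem_II] at hr
  rw [← card_filter_mem]
  refine Finset.card_le_card_of_injOn (fun s => r⁻¹ * s) (fun s hs => ?_) fun _ _ _ _ e =>
    mul_left_cancel e
  simp only [Finset.coe_filter, mem_II, Set.mem_ofPred_eq, Finset.mem_univ, true_and] at hs ⊢
  refine c1_iff'.2 ?_
  calc _ = r⁻¹ * (s * x * s⁻¹) * r := by group
    _ = _ := by rw [inv_of_inv hs.1 hs.2, ← inv_of_inv hr.1 hr.2]; group

theorem sum_Np {R : Type*} [Semiring R] (f : G → R) :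
    ∑ x, (Np x : R) * f x = ∑ s ∈ II G, ∑ r ∈ II G, f (s * r) := by
  simp only [Np, Finset.card_filter, Nat.cast_sum, Finset.sum_mul]
  rw [Finset.sum_comm]
  refine Finset.sum_congr rfl fun s hs => ?_
  rw [II, Finset.sum_filter]
  refine Fintype.sum_equiv (Equiv.mulLeft s) _ _ fun x => ?_
  simp [← mul_assoc, (mem_II.1 hs).2]

theorem pair_sum {χ : G → ℂ} (h : Irr ⊤ χ) (t : G) :
    ∑ s ∈ cob ⊤ t, ∑ r ∈ cob ⊤ t, χ (s * r) = ((cob ⊤ t).card * χ t) ^ 2 / χ 1 := by
  have h1 : ∑ s ∈ cob ⊤ t, χ s = (cob ⊤ t).card * χ t := by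
    rw [Finset.sum_congr rfl (g := fun _ => χ t), Finset.sum_const, nsmul_eq_mul]
    intro s hs
    obtain ⟨u, hu, rfl⟩ := mem_cob.1 hs
    exact h.cf.cnj u hu t
  have h2 : IsClassFunction G fun s => if s ∈ cob ⊤ t then (1 : ℂ) else 0 := fun x g => by
    refine if_congr ⟨fun h => ?_, fun h => ?_⟩ rfl rfl
    · obtain ⟨u, -, e⟩ := mem_cob.1 h
      exact mem_cob.2 ⟨g⁻¹ * u, mem_top _, by
        rw [← mul_left_inj g⁻¹, ← mul_right_inj g, ← mul_assoc g x, ← e]; group⟩
    · obtain ⟨u, -, rfl⟩ := mem_cob.1 h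
      exact mem_cob.2 ⟨g * u, mem_top _, by group⟩
  have h3 := H8.irr_sum_mul_apply_mul (irr_top_iff.1 h) h2
  simp only [ite_mul, one_mul, zero_mul, Finset.sum_ite_mem, Finset.univ_inter] at h3
  rw [Finset.sum_comm, Finset.sum_congr rfl fun r _ => h3 r, ← Finset.mul_sum, h1]
  ring

theorem card_cob_top (t : G) : (cob ⊤ t).card = IT.ix t := by
  have h1 := card_cob ⊤ t
  rw [top_inf_eq, card_top, ← IT.card_mul_ix t] at h1
  exact Nat.eq_of_mul_eq_mul_left Nat.card_pos h1

namespace SC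
variable (h : SC K)
include h

theorem comm : IsMulCommutative K := ⟨⟨fun a b => Subtype.ext (by
  by_cases e : (b : G) = 1
  · simp [e]
  · exact c1_iff.1 ((h b b.2 e).ge a.2))⟩⟩

theorem nor (ha : a ∈ K) (h1 : a ≠ 1) (e : g * a * g⁻¹ ∈ K) : g ∈ Nor K :=
  mem_normalizer_iff_conjS.mpr (by
    rw [← h a ha h1, conjS_cen1, h _ e (conj_ne_one h1), h a ha h1])

theorem tik : TIK K (Nor K) ⊤ := ⟨le_normalizer, le_top, le_rfl, h.comm,
  fun a ha h1 g _ e => h.nor ha h1 e, fun a ha h1 => inf_le_right.trans (h a ha h1).le⟩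

theorem cen_cl (hy : Cl K y) : ∃ g, conjS g (Cen1 y) = K := by
  obtain ⟨h1, g, hg⟩ := hy
  exact ⟨g, by rw [conjS_cen1, h _ hg (conj_ne_one h1)]⟩

theorem cl_of_comm (hy : Cl K y) (h1 : x ≠ 1) (hx : x ∈ Cen1 y) : Cl K x := by
  obtain ⟨g, hg⟩ := h.cen_cl hy
  exact ⟨h1, g, hg ▸ mem_conjS.2 (by simpa [mul_assoc] using hx)⟩

theorem card_cen (hy : Cl K y) : Nat.card (Cen1 y) = Nat.card K := by
  obtain ⟨g, hg⟩ := h.cen_cl hy
  rw [← hg, card_conjS]

theorem cop (h1 : x ≠ 1) (hx : ¬ Cl K x) : (Nat.card (Cen1 x)).Coprime (Nat.card K) := by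
  refine Nat.coprime_of_dvd fun p hp h2 h3 => hx ?_
  obtain ⟨y, hy, oy⟩ := IT.exists_mem_of_dvd hp h2
  obtain ⟨a, ha, oa⟩ := IT.exists_mem_of_dvd hp h3
  obtain ⟨z, oz, hz⟩ := IT.exists_full hp (h3.trans (card_subgroup_dvd_card K))
  have z1 := IT.ne_one_of_orderOf hp oz
  obtain ⟨g, hg⟩ := IT.exists_conj_comm hp hz (IT.PE.of_orderOf oa)
  obtain ⟨c, hc⟩ := IT.exists_conj_comm hp hz (IT.PE.of_orderOf oy)
  have k1 := h.cl_of_comm (.of_mem ha (IT.ne_one_of_orderOf hp oa)) (conj_ne_one z1)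
    (IT.c1_symm hg)
  exact h.cl_of_comm (h.cl_of_comm (k1.of_conj.conj c) (IT.ne_one_of_orderOf hp oy) hc) h1
    (IT.c1_symm hy)

theorem pc_cl (hx : Cl K x) : pc K x = ee K := by
  obtain ⟨h1, g, hg⟩ := hx
  rw [pc, ← ind_conj (mem_top g), (on_one K).ind_apply, ← card_div_card le_normalizer,
    ← card_filter_mem (Nor K), Finset.card_filter, Finset.filter_true_of_mem fun _ _ => mem_top _]
  push_cast
  refine congrArg _ ?_
  refine Finset.sum_congr rfl fun y _ => ?_
  split_ifs with e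
  · exact one_of_mem ((mem_normalizer_iff''.1 e _).1 hg)
  · exact one_of_not_mem fun k => e (by
      simpa using inv_mem (h.nor (g := y⁻¹) hg (conj_ne_one h1) (by simpa using k)))

theorem card_cl : K.index + ee K * (cl K).card = Nat.card G := by
  have h1 := sum_ind (le_top : K ≤ ⊤) (one K)
  rw [Finset.filter_true_of_mem fun _ _ => mem_top _, Finset.sum_congr rfl (g := fun x =>
    (if x = 1 then (K.index : ℂ) else 0) + if Cl K x then (ee K : ℂ) else 0),
    Finset.sum_congr rfl fun x hx => one_of_mem (Finset.mem_filter.1 hx).2, sum_mem_const,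
    Finset.sum_add_distrib, ← Finset.sum_filter (Cl K)] at h1
  · simp only [Finset.sum_ite_eq', Finset.mem_univ, if_true, Finset.sum_const, nsmul_eq_mul,
      mul_one, relIndex_top_right] at h1
    rw [← K.index_mul_card, mul_comm (ee K)]
    exact_mod_cast h1
  intro x _
  by_cases e : x = 1
  · simp [e, Cl, ind_apply_one, one_one]
  · by_cases k : Cl K x
    · simpa [e, k] using h.pc_cl k
    · simpa [e, k] using ind_ncl (fun k => (e k).elim) k

theorem card_cl' : (Nat.card K : ℤ) * ee K * (cl K).card = Nat.card G * (Nat.card K - 1) := by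
  have h1 := h.card_cl
  have h2 := K.index_mul_card
  zify at h1 h2
  linear_combination (Nat.card K : ℤ) * h1 - h2

theorem cong : (Nat.card K : ℤ) ∣ K.index - ee K := by
  have h1 := iz_eq ((vchr_one K).ind le_top) (le_top : K ≤ ⊤) (vchr_one K)
  rw [ip_of_const (fun k hk k1 => h.pc_cl (.of_mem hk k1)) (lin_one K), if_pos rfl, pc,
    ind_apply_one le_top, one_one, mul_one, relIndex_top_right, ← sub_eq_iff_eq_add,
    eq_div_iff (card_ne_zero' K)] at h1
  exact ⟨iz K (pc K) (one K) - ee K, by rw [mul_comm]; exact_mod_cast h1.symm⟩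

theorem inverts (ho : Odd (Nat.card K)) (hs : BS.Inv s) (hn : s ∈ Nor K) (ha : a ∈ K) :
    s * a * s = a⁻¹ := by
  have h1 : s * a * s ∈ K := conj_mem_of_inv hs.2 hn ha
  by_contra hc
  refine hs.not_mem ho ((h _ (mul_mem ha h1) fun e => hc (eq_inv_of_mul_eq_one_right e)).le
    (c1_iff.2 ?_))
  have h2 := H5.comm_of_isMulCommutative h.comm ha h1
  calc _ = s * a * s * a * s := by group
    _ = a * (s * a * s) * s := by rw [h2]

theorem Np_cl (ho : Odd (Nat.card K)) (he : Even (ee K)) (hx : Cl K x) : Np x = Nat.card K := by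
  refine le_antisymm ((Np_le x).trans (h.card_cen hx).le) ?_
  obtain ⟨h1, g, hg⟩ := hx
  obtain ⟨s, hn, hs⟩ := exists_inv_of_even (Q := Nor K) (by
    rw [← H5.card_mul_relIndex (le_normalizer (H := K))]; exact he.mul_left _)
  have k : ∀ a ∈ K, BS.Inv (s * a) := fun a ha => ⟨fun e => Inv.not_mem hs ho (by
    rw [eq_inv_of_mul_eq_one_left e]; exact inv_mem ha), by
      rw [← mul_assoc, h.inverts ho hs hn ha, inv_mul_cancel]⟩
  rw [← Np_conj g, ← card_filter_mem]
  refine Finset.card_le_card_of_injOn (fun a => s * a) (fun a ha => ?_) fun _ _ _ _ e =>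
    mul_left_cancel e
  simp only [Finset.coe_filter, mem_II, Set.mem_ofPred_eq, Finset.mem_univ, true_and] at ha ⊢
  exact ⟨k a ha, by rw [mul_assoc]; exact k _ (mul_mem ha hg)⟩

theorem not_cl (ho : Odd (Nat.card K)) (hs : BS.Inv s) : ¬ Cl K s := fun ⟨_, g, hg⟩ =>
  (hs.conj g).not_mem ho hg

theorem dvd_card : ee K ∣ Nat.card K - 1 := by
  obtain ⟨μ, -, -, -, h1, -⟩ := h.tik.exc
  rw [← h.tik.card_Lam, Nat.add_sub_cancel, Finset.card_eq_sum_card_image μ]
  refine Finset.dvd_sum fun a ha => ?_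
  obtain ⟨m, hm, rfl⟩ := Finset.mem_image.mp ha
  rw [h1 m hm]

end SC

end SCS
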