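import Cfsg.Agent.HS.Ty
import Cfsg.Agent.HS.Num

/-! The self-centralization system of type `(2, 4, 4)`: determination of the group order. -/

set_option autoImplicit false
set_option linter.unusedSectionVars false
set_option linter.unusedVariables false

namespace SCS

open Cfsg H4 BS
open FT hiding Lam
open Subgroup hiding one
open IT (ix)
open scoped Classical ComplexConjugate

variable {G : Type*} [Group G] [Fintype G] {A B C K : Subgroup G} {a g s t x y : G}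
  {l m m' χ θ : G → ℂ} {ν : (G → ℂ) → G → ℂ} {δ : ℤ}

theorem SC.four (h : SC K) (e : ee K = 4) (h5 : 5 < Nat.card K) :
    (Nat.card K : ℤ) % 4 = 1 ∧ (9 : ℤ) ≤ Nat.card K ∧ Odd (Nat.card K) := by
  have := h.dvd_card
  rw [e] at this
  exact ⟨by omega, by omega, Nat.odd_iff.2 (by omega)⟩

theorem SC.cop' (h : SC A) (hB : SC B) (hd : ∀ x, Cl B x → ¬ Cl A x) (h5 : 5 < Nat.card B) :
    IsCoprime (Nat.card B : ℤ) (Nat.card A) := by
  obtain ⟨x, hx, x1⟩ : ∃ x ∈ B, x ≠ 1 := by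
    by_contra! e
    rw [(eq_bot_iff_forall B).2 e] at h5
    simp at h5
  have := h.cop x1 (hd x (.of_mem hx x1))
  rw [hB x hx x1] at this
  exact Nat.isCoprime_iff_coprime.2 this

structure Sys (A B C : Subgroup G) (θ : G → ℂ) (ν : (G → ℂ) → G → ℂ) (δ : ℤ) (t : G) : Prop
    extends Ex A θ ν δ where
  hB : SC B
  hC : SC C
  eB : ee B = 4
  eC : ee C = 4
  u5 : 5 < Nat.card B
  v5 : 5 < Nat.card C
  dB : ∀ x, Cl B x → ¬ Cl A x
  dC : ∀ x, Cl C x → ¬ Cl A x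
  dCB : ∀ x, Cl C x → ¬ Cl B x
  ord : (Nat.card G : ℤ) ≤ 3 * Nat.card A ^ 2 * Nat.card B ^ 2 * Nat.card C ^ 2
  ht : BS.Inv t
  cls : cob ⊤ t = II G

/-- the remaining elements -/
noncomputable def TT (A B C : Subgroup G) : Finset G :=
  (Finset.univ.filter fun x => ¬ Cl A x ∧ ¬ Cl B x ∧ ¬ Cl C x).erase 1

theorem mem_TT : x ∈ TT A B C ↔ x ≠ 1 ∧ ¬ Cl A x ∧ ¬ Cl B x ∧ ¬ Cl C x := by simp [TT]

namespace Sys
variable (h : Sys A B C θ ν δ t)
include h

theorem symm : Sys A C B θ ν δ t := ⟨h.toEx, h.hC, h.hB, h.eC, h.eB, h.v5, h.u5, h.dC, h.dB,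
  fun x h1 h2 => h.dCB x h2 h1, h.ord.trans_eq (by ring), h.ht, h.cls⟩

theorem split (f : G → ℤ) {a b c : ℤ} (ha : ∀ x, Cl A x → f x = a) (hb : ∀ x, Cl B x → f x = b)
    (hc : ∀ x, Cl C x → f x = c) : ∑ x, f x = (cl A).card * a + (cl B).card * b +
      (cl C).card * c + (f 1 + ∑ x ∈ TT A B C, f x) := by
  rw [TT, Finset.add_sum_erase _ _ (by simp [Cl]), Finset.sum_filter]
  simp only [cl, Finset.card_filter, Nat.cast_sum, Finset.sum_mul, ← Finset.sum_add_distrib]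
  refine Finset.sum_congr rfl fun x _ => ?_
  have := h.dB x
  have := h.dC x
  have := h.dCB x
  by_cases e1 : Cl A x <;> by_cases e2 : Cl B x <;> by_cases e3 : Cl C x <;> simp_all

theorem card_II : (II G).card = ix t := by rw [← h.cls, card_cob_top]

theorem ix_inv (hs : BS.Inv s) : ix s = ix t := by
  obtain ⟨u, -, rfl⟩ := mem_cob.1 (h.cls ▸ mem_II.2 hs)
  exact IT.ix_conj u t

theorem kc : (Nat.card (Cen1 t) : ℤ) * ix t = Nat.card G := by exact_mod_cast IT.card_mul_ix t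

theorem four_g : 4 ∣ Nat.card G := by
  refine dvd_trans ?_ (card_subgroup_dvd_card (Nor B))
  rw [← H5.card_mul_relIndex (le_normalizer (H := B)), show B.relIndex (Nor B) = 4 from h.eB]
  exact dvd_mul_left _ _

theorem odd_k : Odd (ix t) := by
  obtain ⟨z, oz, hz⟩ := IT.exists_full Nat.prime_two ((show 2 ∣ 4 by norm_num).trans h.four_g)
  rw [h.ix_inv ⟨IT.ne_one_of_orderOf Nat.prime_two oz, by rw [← sq, ← oz, pow_orderOf_eq_one]⟩]
    at hz
  exact Nat.odd_iff.2 (by omega)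

theorem four_c : 4 ∣ Nat.card (Cen1 t) := by
  refine Nat.Coprime.dvd_of_dvd_mul_right (n := ix t) ?_ (IT.card_mul_ix t ▸ h.four_g)
  exact Nat.Coprime.pow_left 2 (Nat.coprime_two_left.2 h.odd_k)

theorem copT (hx : x ∈ TT A B C) :
    IsCoprime (Nat.card (Cen1 x) : ℤ) (Nat.card A * (Nat.card B * Nat.card C)) := by
  obtain ⟨h1, h2, h3, h4⟩ := mem_TT.1 hx
  exact_mod_cast Nat.isCoprime_iff_coprime.2 (Nat.Coprime.mul_right (h.sc.cop h1 h2)
    (Nat.Coprime.mul_right (h.hB.cop h1 h3) (h.hC.cop h1 h4)))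

theorem inv_TT (hs : BS.Inv s) : s ∈ TT A B C :=
  mem_TT.2 ⟨hs.1, h.sc.not_cl h.odd hs, h.hB.not_cl (h.hB.four h.eB h.u5).2.2 hs,
    h.hC.not_cl (h.hC.four h.eC h.v5).2.2 hs⟩

theorem clA : (Nat.card A : ℤ) * 2 * (cl A).card = Nat.card G * (Nat.card A - 1) := by
  simpa [h.e2] using h.sc.card_cl'

theorem clB : (Nat.card B : ℤ) * 4 * (cl B).card = Nat.card G * (Nat.card B - 1) := by
  simpa [h.eB] using h.hB.card_cl'

theorem NpB (hx : Cl B x) : Np x = Nat.card B :=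
  h.hB.Np_cl (h.hB.four h.eB h.u5).2.2 (h.eB ▸ ⟨2, rfl⟩) hx

theorem sumN : ∑ x : G, (Np x : ℤ) = (ix t : ℤ) ^ 2 := by
  simpa [h.card_II, sq] using sum_Np (G := G) fun _ => (1 : ℤ)

theorem lower : (Nat.card (Cen1 t) : ℤ) * (Nat.card B + Nat.card C + 2 * Nat.card A - 4) <
    4 * ix t := by
  have h1 := h.split (fun x => Np x)
    (fun x hx => congrArg Nat.cast (h.sc.Np_cl h.odd (h.e2 ▸ even_two) hx))
    (fun x hx => congrArg Nat.cast (h.NpB hx)) fun x hx => congrArg Nat.cast (h.symm.NpB hx)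
  have h2 : 0 ≤ ∑ x ∈ TT A B C, (Np x : ℤ) := Finset.sum_nonneg fun _ _ => Nat.cast_nonneg _
  have h3 : (0 : ℤ) < ix t := by exact_mod_cast IT.ix_pos t
  rw [h.sumN, Np_one, h.card_II] at h1
  refine lt_of_mul_lt_mul_left ?_ h3.le
  have := h.clA
  have := h.clB
  have := h.symm.clB
  rw [← h.kc] at *
  linarith

theorem pos : 0 < th δ θ 1 * (th δ θ 1 + 1) := by
  have h1 := (h.dvd1 1).1
  have h2 := (h.dvd2 (x := 1) fun e => e.1 rfl).1
  rcases (by omega : 0 < th δ θ 1 ∨ th δ θ 1 + 1 < 0) with e | e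
  · exact mul_pos e (by omega)
  · exact mul_pos_of_neg_of_neg (by omega) e

theorem exists_j [IsSimpleGroup G] : ∃ j : ℤ, 0 < j ∧
    Nat.card G = Nat.card A * (th δ θ 1 * (th δ θ 1 + 1) * (j * j)) ∧
    Nat.card (Cen1 t) = j * |th δ θ 1 - th δ θ t| ∧
    ix t * |th δ θ 1 - th δ θ t| = Nat.card A * j * (th δ θ 1 * (th δ θ 1 + 1)) ∧
    (Nat.card A : ℤ) ∣ j * j - 1 := by
  have h1 := h.main h.ht h.cls
  have h2 := h.kc
  have h3 := h.pos
  obtain ⟨i, h4⟩ := h.cst.2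
  have h5 := (h.dvd1 1).2.1
  have h6 := (h.dvd2 (x := 1) fun e => e.1 rfl).2.1
  have h7 : (Nat.card A : ℤ) ∣ Nat.card G := Int.natCast_dvd_natCast.2 (card_subgroup_dvd_card A)
  have h8 := h.sc.cong
  have h9 : (A.index : ℤ) * Nat.card A = Nat.card G := by exact_mod_cast A.index_mul_card
  obtain ⟨r, hr⟩ : Odd (Nat.card A : ℤ) := h.odd.natCast
  have c0 : (0 : ℤ) < Nat.card (Cen1 t) := by exact_mod_cast Nat.card_pos
  have g0 : (0 : ℤ) < Nat.card G := by exact_mod_cast Nat.card_pos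
  have n0 : (0 : ℤ) < Nat.card A := by exact_mod_cast Nat.card_pos
  rw [h.e2] at h8
  generalize (Nat.card A : ℤ) = n at *
  generalize (Nat.card G : ℤ) = g at *
  generalize (Nat.card (Cen1 t) : ℤ) = c at *
  generalize (ix t : ℤ) = k at *
  generalize th δ θ 1 = a at *
  rw [← sq_abs, abs_mul] at h1
  have b0 := abs_nonneg (a - th δ θ t)
  generalize |a - th δ θ t| = b at *
  have n2 : IsCoprime n 2 := ⟨1, -r, by rw [hr]; ring⟩
  obtain ⟨J, hJ⟩ : n * (a * (a + 1)) ∣ g := IsCoprime.mul_dvd (IsCoprime.mul_right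
    ⟨-i, 1, by linear_combination h4⟩ (by
      rw [show a + 1 = 2 + n * i by linear_combination h4]
      exact n2.add_mul_left_right i)) h7 (IsCoprime.mul_dvd ⟨-1, 1, by ring⟩ h5 h6)
  have k1 : J * b ^ 2 = c ^ 2 := by
    refine mul_left_cancel₀ (mul_pos g0 (mul_pos n0 h3)).ne' ?_
    have := sq_abs k
    linear_combination (-c ^ 2) * h1 - b ^ 2 * g * hJ - c ^ 2 * b ^ 2 * this -
      b ^ 2 * (c * k + g) * h2
  obtain ⟨j, hj⟩ := (Int.pow_dvd_pow_iff two_ne_zero).1 (Dvd.intro_left _ k1)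
  have b1 : b ≠ 0 := fun e => c0.ne' (by simp [hj, e])
  have j0 : 0 < j := by
    by_contra hc
    nlinarith [mul_nonneg b0 (show 0 ≤ -j by omega)]
  obtain rfl : J = j * j := mul_right_cancel₀ (pow_ne_zero 2 b1) (by rw [k1, hj]; ring)
  refine ⟨j, j0, by rw [hJ]; ring, by rw [hj]; ring, mul_left_cancel₀ j0.ne' (by
    linear_combination h2 + hJ - k * hj), n2.dvd_of_dvd_mul_left ?_⟩
  have k2 : (A.index : ℤ) = a * (a + 1) * (j * j) :=
    mul_right_cancel₀ n0.ne' (by rw [h9, hJ]; ring)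
  obtain ⟨m, hm⟩ := h8
  exact ⟨m - i * (a + 2) * (j * j), by
    push_cast at hm
    linear_combination hm - k2 - (a + 2) * (j * j) * h4⟩

theorem sum_T' : (Nat.card A : ℤ) * ∑ x ∈ (Finset.univ.filter (¬ Cl A ·)).erase 1,
    th δ θ x * (th δ θ x + 1) = Nat.card G - Nat.card A * (th δ θ 1 * (th δ θ 1 + 1)) := by
  have h1 := h.sum_T
  rw [← Finset.add_sum_erase _ _ (a := 1) (by simp [Cl])] at h1
  linear_combination (Nat.card A : ℤ) * h1 - h.clA

theorem upper : (Nat.card A : ℤ) * (ix t * (th δ θ t * (th δ θ t + 1))) ≤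
    Nat.card G - Nat.card A * (th δ θ 1 * (th δ θ 1 + 1)) := by
  rw [← h.sum_T', ← h.card_II, ← nsmul_eq_mul (II G).card, ← Finset.sum_const]
  refine mul_le_mul_of_nonneg_left (le_trans (le_of_eq (Finset.sum_congr rfl fun s hs => ?_))
    (Finset.sum_le_sum_of_subset_of_nonneg (s := II G) (fun s hs => ?_) fun x _ _ => ?_))
    (Nat.cast_nonneg _)
  · obtain ⟨u, -, rfl⟩ := mem_cob.1 (h.cls ▸ hs)
    rw [h.th_conj]
  · simpa using ⟨(mem_II.1 hs).1, h.sc.not_cl h.odd (mem_II.1 hs)⟩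
  · nlinarith [sq_nonneg (2 * th δ θ x + 1), Int.even_mul_succ_self (th δ θ x)]

theorem congB : ∃ i : ℤ, i * Nat.card B = Nat.card G ∧ (Nat.card B : ℤ) ∣ i - 4 :=
  ⟨B.index, by exact_mod_cast B.index_mul_card, by simpa [h.eB] using h.hB.cong⟩

theorem upper' {j b : ℤ} (b0 : 0 ≤ b)
    (h1 : Nat.card G = Nat.card A * (th δ θ 1 * (th δ θ 1 + 1) * (j * j)))
    (h2 : ix t * b = Nat.card A * j * (th δ θ 1 * (th δ θ 1 + 1))) :
    Nat.card A * j * (th δ θ t * (th δ θ t + 1)) ≤ b * (j * j - 1) := by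
  have h3 := mul_le_mul_of_nonneg_left h.upper b0
  have n0 : (0 : ℤ) < Nat.card A := by exact_mod_cast Nat.card_pos
  refine le_of_mul_le_mul_left ?_ (mul_pos n0 h.pos)
  rw [h1] at h3
  linear_combination h3 - Nat.card A * (th δ θ t * (th δ θ t + 1)) * h2

theorem bound {j : ℤ} (h1 : Nat.card G = Nat.card A * (th δ θ 1 * (th δ θ 1 + 1) * (j * j))) :
    th δ θ 1 * (th δ θ 1 + 1) * (j * j) ≤
      3 * Nat.card A * (Nat.card B * Nat.card C) * (Nat.card B * Nat.card C) := by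
  have n0 : (0 : ℤ) < Nat.card A := by exact_mod_cast Nat.card_pos
  refine le_of_mul_le_mul_left ?_ n0
  linear_combination h.ord - h1

theorem s_eq {b : ℤ} (h1 : Nat.card A * 1 * (th δ θ t * (th δ θ t + 1)) ≤ b * (1 * 1 - 1)) :
    th δ θ t = 0 ∨ th δ θ t = -1 := by
  have n0 : (0 : ℤ) < Nat.card A := by exact_mod_cast Nat.card_pos
  have : th δ θ t * (th δ θ t + 1) ≤ 0 := by nlinarith
  by_contra hc
  rcases (by omega : 0 < th δ θ t ∨ th δ θ t < -1) with e | e <;> nlinarith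

theorem not_dvd (h1 : (Nat.card B : ℤ) ∣ Nat.card (Cen1 t)) : False := by
  have := Int.isUnit_iff.1 ((h.copT (h.inv_TT h.ht)).isUnit_of_dvd' h1
    ((dvd_mul_right _ _).mul_left _))
  have := h.u5
  omega

theorem not_mix [IsSimpleGroup G] (h1 : (Nat.card B : ℤ) ∣ th δ θ 1)
    (h2 : (Nat.card C : ℤ) ∣ th δ θ 1 + 1) (h9 : Nat.card A ≤ 9) : False := by
  obtain ⟨j, j0, e1, e2, e3, e4⟩ := h.exists_j
  have k1 := h.upper' (abs_nonneg _) e1 e3
  rcases (by omega : j = 1 ∨ 1 < j) with rfl | hj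
  · rcases h.s_eq k1 with e | e
    · exact h.not_dvd (by rw [e2, e]; simpa using h1)
    · exact h.symm.not_dvd (by rw [e2, e]; simpa using h2)
  obtain ⟨α, hα⟩ := h1
  obtain ⟨β, hβ⟩ := h2
  obtain ⟨u4, u9, -⟩ := h.hB.four h.eB h.u5
  obtain ⟨v4, v9, -⟩ := h.hC.four h.eC h.v5
  obtain ⟨i, i1, p, i2⟩ := h.congB
  obtain ⟨i', i1', p', i2'⟩ := h.symm.congB
  have k2 := h.bound e1
  have k3 := h.lower
  have k4 := h.cst.2
  have k5 := (h.dvd1 1).1
  have k6 := h.pos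
  have k7 := Nat.odd_iff.1 h.odd
  have k8 := h.n5
  have c0 : (0 : ℤ) < Nat.card (Cen1 t) := by exact_mod_cast Nat.card_pos
  have b0 : 0 < |th δ θ 1 - th δ θ t| := abs_pos.2 fun e => c0.ne' (by rw [e2, e]; simp)
  rw [mul_comm] at hα hβ
  rw [hα] at hβ e1 e2 e3 k1 k2 k4 k5 b0
  refine mix (by omega) u9 v9 u4 v4 hβ (left_ne_zero_of_mul k5) k4 hj e4 k2
    ⟨p - Nat.card A * α * α * (j * j), mul_left_cancel₀ (show (Nat.card B : ℤ) ≠ 0 by omega) ?_⟩
    ⟨Nat.card A * β * β * (j * j) - p', mul_left_cancel₀ (show (Nat.card C : ℤ) ≠ 0 by omega) ?_⟩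
    rfl (lt_of_mul_lt_mul_left ?_ j0.le) k1
  · linear_combination Nat.card B * i2 - i1 - e1
  · linear_combination i1' + e1 - Nat.card C * i2' +
      Nat.card A * (j * j) * (α * Nat.card B + β * Nat.card C) * hβ
  · have := mul_lt_mul_of_pos_left k3 b0
    rw [e2] at this
    linear_combination this + 4 * e3

/-- the degree data -/
theorem data [IsSimpleGroup G] : (∀ x, Cl B x → th δ θ x = -1) ∧ (∀ x, Cl C x → th δ θ x = -1) ∧
    (Nat.card B * Nat.card C : ℤ) ∣ th δ θ 1 + 1 ∧ th δ θ t = 0 ∧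
    Nat.card G = Nat.card A * (th δ θ 1 * (th δ θ 1 + 1)) ∧ Nat.card (Cen1 t) = |th δ θ 1| := by
  obtain ⟨m, hm⟩ := h.hB.lam (by have := h.u5; omega)
  obtain ⟨m', hm'⟩ := h.hC.lam (by have := h.v5; omega)
  obtain ⟨w, a1, a2, a3, a4⟩ := h.typ h.hB h.eB h.dB hm
  obtain ⟨w', b1, b2, b3, b4⟩ := h.typ h.hC h.eC h.dC hm'
  rcases a4 with rfl | ⟨rfl, a4⟩ <;> rcases b4 with rfl | ⟨rfl, b4⟩
  rotate_left
  · exact (h.symm.not_mix (by simpa using b2) (by simpa using a2) b4).elim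
  · exact (h.not_mix (by simpa using a2) (by simpa using b2) a4).elim
  · exact (h.not_both h.hB h.hC h.eB h.eC h.dCB hm hm' a3 b3).elim
  have k0 : (Nat.card B * Nat.card C : ℤ) ∣ th δ θ 1 + 1 :=
    (h.hB.cop' h.hC h.dCB h.v5).symm.mul_dvd (by simpa using a2) (by simpa using b2)
  obtain ⟨j, j0, e1, e2, e3, e4⟩ := h.exists_j
  have k1 := h.upper' (abs_nonneg _) e1 e3
  rcases (by omega : j = 1 ∨ 1 < j) with rfl | hj
  · rcases h.s_eq k1 with e | e
    · exact ⟨a1, b1, k0, e, by simpa using e1, by simpa [e] using e2⟩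
    · exact (h.not_dvd (by rw [e2, e]; simpa using a2)).elim
  obtain ⟨κ, hκ⟩ := k0
  obtain ⟨-, u9, -⟩ := h.hB.four h.eB h.u5
  obtain ⟨-, v9, -⟩ := h.hC.four h.eC h.v5
  have c0 : (0 : ℤ) < Nat.card (Cen1 t) := by exact_mod_cast Nat.card_pos
  exact (both (by exact_mod_cast h.n5) h.odd.natCast (by nlinarith) (hκ.trans (mul_comm _ _))
    (fun e => (h.dvd2 (x := 1) fun e => e.1 rfl).1 (by simp [hκ, e])) h.cst.2 hj e4 (h.bound e1) rfl
    (abs_pos.2 fun e => c0.ne' (by rw [e2, e]; simp)) e3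
    ((e2 ▸ h.copT (h.inv_TT h.ht)).of_mul_left_right) k1 h.odd_k.natCast).elim

end Sys

end SCS
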