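import Cfsg.Agent.HS.Ch

/-! Strongly self-centralizing subgroups: the non-exceptional character. -/

set_option autoImplicit false
set_option linter.unusedSectionVars false
set_option linter.unusedVariables false

namespace SCS

open Cfsg H4 BS
open FT hiding Lam
open Subgroup hiding one
open IT (ix)
open scoped Classical ComplexConjugate

variable {G : Type*} [Group G] [Fintype G] {A B C K : Subgroup G} {a g s t x y : G}
  {l m m' χ θ : G → ℂ} {ν : (G → ℂ) → G → ℂ} {δ : ℤ}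

/-- the values of the signed character -/
noncomputable def th (δ : ℤ) (θ : G → ℂ) (x : G) : ℤ := δ * ⌊(θ x).re⌋

theorem dvd_of_irr (h : Irr ⊤ χ) (hδ : δ = 1 ∨ δ = -1) {a b : ℤ} (h1 : δ * χ 1 = a)
    (h2 : δ * χ x = b) : a ≠ 0 ∧ a ∣ Nat.card G ∧ a ∣ ix x * b := by
  have d0 : (δ : ℂ) ≠ 0 := by rcases hδ with rfl | rfl <;> simp
  have a0 : a ≠ 0 := fun e => mul_ne_zero d0 h.apply_one_ne_zero (by simp [h1, e])
  refine ⟨a0, ?_, H8.int_dvd_of_isIntegral_div a0 ?_⟩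
  · obtain ⟨n, -, e⟩ := h.apply_one
    have k := h.degree_dvd e
    rw [card_top] at k
    obtain rfl : a = δ * n := by rw [e] at h1; exact_mod_cast h1.symm
    rcases hδ with rfl | rfl <;> simpa using Int.natCast_dvd_natCast.2 k
  · convert H8.irr_isIntegral_class (irr_top_iff.1 h) x using 1
    rw [← H8.index_centralizer_eq, Int.cast_mul, ← h1, ← h2]
    have := h.apply_one_ne_zero
    field_simp
    simp [mul_comm]

theorem pair_of_irr (h : Irr ⊤ χ) (hδ : δ = 1 ∨ δ = -1) {a b : ℤ} (h1 : δ * χ 1 = a)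
    (h2 : δ * χ t = b) : a * ∑ s ∈ cob ⊤ t, ∑ r ∈ cob ⊤ t, δ * χ (s * r) = ((ix t : ℂ) * b) ^ 2 := by
  simp only [← Finset.mul_sum]
  rw [pair_sum h, card_cob_top, ← h1, ← h2]
  have := h.apply_one_ne_zero
  field_simp

namespace Ex
variable (h : Ex A θ ν δ)
include h

theorem lam : ∃ l, l ∈ Lam A := h.sc.lam (by have := h.n5; omega)

theorem odd : Odd (Nat.card A) := by
  have h1 := h.sc.dvd_card
  have h2 := h.n5
  rw [h.e2] at h1
  exact Nat.odd_iff.2 (by omega)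

theorem sq : (δ : ℂ) * δ = 1 := by rcases h.sg with rfl | rfl <;> simp

theorem dd_eq (hl : l ∈ Lam A) (hχ : Irr ⊤ χ) : (dd A l χ : ℂ) = (if one ⊤ = χ then 1 else 0) +
    δ * ((if θ = χ then 1 else 0) - if ν l = χ then 1 else 0) := by
  rw [← ip_eta (mem_Lam.1 hl).2 hχ, h.eq l hl, ip_add_left, ip_smul_left, ip_sub_left,
    (irr_one ⊤).ip_eq hχ, h.iθ.ip_eq hχ, (h.iν l hl).ip_eq hχ]

theorem dd_θ (hl : l ∈ Lam A) : dd A l θ = δ := by
  have := h.dd_eq hl h.iθ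
  rw [if_neg h.θ1.symm, if_pos rfl, if_neg (h.νθ l hl)] at this
  exact_mod_cast (by simpa using this : (dd A l θ : ℂ) = δ)

theorem aut_eq (τ : ℂ →+* ℂ) : aut τ θ = θ := by
  obtain ⟨l, hl⟩ := h.lam
  have h1 := (mem_Lam.1 hl).2
  have h2 : aut τ l ∈ Lam A := mem_Lam.2 ⟨fun e => (mem_Lam.1 hl).1 ((aut_eq_one_iff τ).1 e),
    h1.aut τ⟩
  have h3 := h.dd_eq h2 (h.iθ.aut τ)
  rw [← ip_eta (h1.aut τ) (h.iθ.aut τ), eta, ← aut_one τ A, ← aut_sub, ind_aut,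
    ip_aut τ _ h.iθ.vchr, ← eta, ip_eta h1 h.iθ, h.dd_θ hl, map_intCast,
    if_neg fun e => h.θ1 ((aut_eq_one_iff τ).1 e.symm)] at h3
  by_contra hc
  rw [if_neg (Ne.symm hc)] at h3
  rcases h.sg with rfl | rfl <;> split_ifs at h3 <;> norm_num at h3

theorem th_eq (x : G) : δ * θ x = th δ θ x := by
  obtain ⟨m, e⟩ := h.iθ.vchr.int_of_aut (x := x) fun τ _ => congrFun (h.aut_eq τ) x
  simp [th, e]

theorem th_conj (g x : G) : th δ θ (g * x * g⁻¹) = th δ θ x := by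
  rw [th, h.iθ.cf.cnj g (mem_top g), th]

theorem cst : (∀ x, Cl A x → th δ θ x = 1) ∧ (Nat.card A : ℤ) ∣ th δ θ 1 - 1 := by
  obtain ⟨l, hl⟩ := h.lam
  obtain ⟨h1, h2⟩ := h.sc.const h.iθ (fun l hl l' hl' => by
    have := (h.dd_θ hl).trans (h.dd_θ hl').symm
    simp only [dd] at this
    omega) hl
  rw [h.dd_θ hl] at h1 h2
  refine ⟨fun x hx => Int.cast_injective (α := ℂ) (by rw [← h.th_eq, h1 x hx, h.sq]; simp),
    δ * iz A θ l, Int.cast_injective (α := ℂ) ?_⟩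
  push_cast
  rw [← h.th_eq, h2]
  linear_combination h.sq

theorem eta_eq (hl : l ∈ Lam A) (x : G) : eta A l x = 1 + th δ θ x - δ * ν l x := by
  rw [h.eq l hl, ← h.th_eq, one_top]; simp; ring

theorem nu_eq (hl : l ∈ Lam A) (hx : ¬ Cl A x) : δ * ν l x = (th δ θ x + 1 : ℤ) := by
  have := h.eta_eq hl x
  rw [h.sc.eta_ncl (mem_Lam.1 hl).2 hx] at this
  push_cast
  linear_combination this

theorem conj_θ (x : G) : conj (θ x) = δ * th δ θ x := by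
  rw [show θ x = δ * th δ θ x by rw [← h.th_eq, ← mul_assoc, h.sq, one_mul]]; simp

theorem sum_sq : ∑ x, th δ θ x ^ 2 = Nat.card G := by
  have := h.iθ.ip_self
  rw [ip_eq_sum_univ (on_top _), card_top, inv_mul_eq_iff_eq_mul₀ H8.card_ne_zero_complex,
    Finset.sum_congr rfl (g := fun x => (th δ θ x : ℂ) ^ 2) fun x _ => by
      rw [h.conj_θ]; linear_combination th δ θ x * h.th_eq x, mul_one] at this
  exact_mod_cast this

theorem sum_T : ∑ x ∈ Finset.univ.filter (¬ Cl A ·), th δ θ x * (th δ θ x + 1) +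
    2 * (cl A).card = Nat.card G := by
  obtain ⟨l, hl⟩ := h.lam
  have h1 := (h.iν l hl).ip_of_ne h.iθ (h.νθ l hl)
  rw [ip_eq_sum_univ (on_top _), mul_eq_zero, or_iff_right (inv_ne_zero (card_ne_zero' _)),
    Finset.sum_congr rfl (g := fun x => (if ¬ Cl A x then ((th δ θ x * (th δ θ x + 1) : ℤ) : ℂ)
      else 0) + (if Cl A x then 2 else 0) - eta A l x), Finset.sum_sub_distrib, sum_eta hl,
      Finset.sum_add_distrib, ← Finset.sum_filter, ← Finset.sum_filter (Cl A), Finset.sum_const,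
      nsmul_eq_mul, sub_eq_zero, mul_comm] at h1
  · exact_mod_cast h1
  intro x _
  rw [h.conj_θ]
  by_cases e : Cl A x
  · rw [h.eta_eq hl, h.cst.1 x e]; simp [e]; ring
  · have := h.nu_eq hl e
    rw [h.sc.eta_ncl (mem_Lam.1 hl).2 e]
    simp only [e, not_false_eq_true, if_true, if_false]
    push_cast at this ⊢
    linear_combination th δ θ x * this

theorem dvd1 (x : G) : th δ θ 1 ≠ 0 ∧ th δ θ 1 ∣ Nat.card G ∧ th δ θ 1 ∣ ix x * th δ θ x :=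
  dvd_of_irr h.iθ h.sg (h.th_eq 1) (h.th_eq x)

theorem dvd2 (hx : ¬ Cl A x) : th δ θ 1 + 1 ≠ 0 ∧ th δ θ 1 + 1 ∣ Nat.card G ∧
    th δ θ 1 + 1 ∣ ix x * (th δ θ x + 1) := by
  obtain ⟨l, hl⟩ := h.lam
  exact dvd_of_irr (h.iν l hl) h.sg (h.nu_eq hl fun e => e.1 rfl) (h.nu_eq hl hx)

theorem pair_θ (t : G) : th δ θ 1 * ∑ s ∈ cob ⊤ t, ∑ r ∈ cob ⊤ t, th δ θ (s * r) =
    (ix t * th δ θ t) ^ 2 := by
  have := pair_of_irr h.iθ h.sg (h.th_eq 1) (h.th_eq t)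
  simp only [h.th_eq] at this
  exact_mod_cast this

theorem pair_eta (hl : l ∈ Lam A) (ht : ¬ Cl A t) : th δ θ 1 * (th δ θ 1 + 1) *
    ∑ s ∈ cob ⊤ t, ∑ r ∈ cob ⊤ t, eta A l (s * r) = ((ix t : ℂ) * (th δ θ 1 - th δ θ t)) ^ 2 := by
  have h1 := pair_of_irr h.iθ h.sg (h.th_eq 1) (h.th_eq t)
  have h2 := pair_of_irr (h.iν l hl) h.sg (h.nu_eq hl fun e => e.1 rfl) (h.nu_eq hl ht)
  simp only [h.th_eq] at h1
  simp only [h.eta_eq hl, Finset.sum_sub_distrib, Finset.sum_add_distrib, Finset.sum_const,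
    card_cob_top, nsmul_eq_mul]
  push_cast at h2
  linear_combination (th δ θ 1 + 1 : ℂ) * h1 - th δ θ 1 * h2

theorem exists_inv : ∃ t ∈ Nor A, BS.Inv t ∧ ∀ s, BS.Inv s → s ∈ Nor A → s ∈ cob ⊤ t := by
  obtain ⟨t, hn, ht⟩ := exists_inv_of_even (Q := Nor A) (by
    rw [← H5.card_mul_relIndex (le_normalizer (H := A)), show A.relIndex (Nor A) = 2 from h.e2]
    exact even_two.mul_left _)
  refine ⟨t, hn, ht, fun s hs sn => ?_⟩
  have h1 : t * s ∈ A := (mul_mem_iff_of_index_two (H := A.subgroupOf (Nor A)) h.e2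
    (a := ⟨t, hn⟩) (b := ⟨s, sn⟩)).2 (iff_of_false (Inv.not_mem ht h.odd) (hs.not_mem h.odd))
  obtain ⟨n, e⟩ := exists_sqrt (BS.odd_orderOf_of_mem h.odd h1)
  refine mem_cob.2 ⟨((t * s) ^ n)⁻¹, mem_top _, ?_⟩
  rw [inv_inv, ← h.sc.inverts h.odd ht hn (pow_mem h1 n), mul_assoc _ t t, ht.2, mul_one,
    mul_assoc, e, ← mul_assoc, ht.2, one_mul]

variable [IsSimpleGroup G]

theorem faith (e : th δ θ x = th δ θ 1) : x = 1 :=
  H8.irr_faithful_of_simple (irr_top_iff.1 h.iθ) (one_top (G := G) ▸ h.θ1) (by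
    have d0 : (δ : ℂ) ≠ 0 := left_ne_zero_of_mul_eq_one h.sq
    exact mul_left_cancel₀ d0 (by rw [h.th_eq, h.th_eq, e]))

theorem one_class : ∃ t, BS.Inv t ∧ cob ⊤ t = II G := by
  obtain ⟨t, hn, ht, h1⟩ := h.exists_inv
  obtain ⟨l, hl⟩ := h.lam
  refine ⟨t, ht, Finset.ext fun s => ⟨fun hs => ?_, fun hs => by_contra fun hc => ?_⟩⟩
  · obtain ⟨u, -, rfl⟩ := mem_cob.1 hs
    exact mem_II.2 (ht.conj u)
  have hs := mem_II.1 hs
  have h2 := h.pair_eta hl (h.sc.not_cl h.odd hs)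
  rw [Finset.sum_eq_zero fun a ha => Finset.sum_eq_zero fun b hb => ?_, mul_zero, eq_comm,
    sq_eq_zero_iff, mul_eq_zero, or_iff_right (Nat.cast_ne_zero.2 (IT.ix_pos s).ne'),
    sub_eq_zero] at h2
  · exact hs.1 (h.faith (by exact_mod_cast h2.symm))
  refine h.sc.eta_ncl (mem_Lam.1 hl).2 fun ⟨k1, g, hg⟩ => hc ?_
  obtain ⟨u, -, rfl⟩ := mem_cob.1 ha
  obtain ⟨v, -, rfl⟩ := mem_cob.1 hb
  have k2 := (hs.conj u).conj g
  have k3 := inv_of_inv k2 (x := g * (u * s * u⁻¹ * (v * s * v⁻¹)) * g⁻¹) (by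
    convert (hs.conj v).conj g using 1
    calc _ = g * (u * s * u⁻¹ * (u * s * u⁻¹)) * (v * s * v⁻¹) * g⁻¹ := by group
      _ = _ := by rw [(hs.conj u).2]; group)
  obtain ⟨w, -, e⟩ := mem_cob.1 (h1 _ k2 (h.sc.nor hg (conj_ne_one k1) (k3 ▸ inv_mem hg)))
  exact mem_cob.2 ⟨u⁻¹ * g⁻¹ * w, mem_top _, by
    calc _ = u⁻¹ * g⁻¹ * (w * t * w⁻¹) * g * u := by group
      _ = _ := by rw [e]; group⟩

theorem main (ht : BS.Inv t) (e : cob ⊤ t = II G) : th δ θ 1 * (th δ θ 1 + 1) *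
    (Nat.card A * Nat.card G) = (ix t * (th δ θ 1 - th δ θ t)) ^ 2 := by
  obtain ⟨l, hl⟩ := h.lam
  have h2 := h.pair_eta hl (h.sc.not_cl h.odd ht)
  rw [e, ← sum_Np, Finset.sum_congr rfl (g := fun x => Nat.card A * eta A l x) fun x _ => ?_,
    ← Finset.mul_sum, sum_eta hl] at h2
  · exact_mod_cast h2
  by_cases k : Cl A x
  · rw [h.sc.Np_cl h.odd (h.e2 ▸ even_two) k]
  · simp [h.sc.eta_ncl (mem_Lam.1 hl).2 k]

end Ex

end SCS
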