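import Cfsg.Agent.HS.Th

/-! Strongly self-centralizing subgroups: values on the subgroups of index `4`. -/

set_option autoImplicit false
set_option linter.unusedSectionVars false
set_option linter.unusedVariables false

namespace SCS

open Cfsg H4 BS
open FT hiding Lam
open Subgroup hiding one
open IT (ix)
open scoped Classical ComplexConjugate

variable {G : Type*} [Group G] [Fintype G] {A B C K : Subgroup G} {a g s t x y : G}
  {l m m' χ θ : G → ℂ} {ν : (G → ℂ) → G → ℂ} {δ : ℤ}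

theorem SC.ip_eta (h : SC A) (hd : ∀ x, Cl B x → ¬ Cl A x) (hl : Irr A l) (m : G → ℂ) :
    ip B (eta A l) m = 0 := by
  rw [ip_congr (f' := 0) (g' := m) (fun x hx => h.eta_ncl hl fun k => hd x (.of_mem hx k.1) k)
    fun _ _ => rfl, ip_zero_left]

theorem SC.orth (h : SC B) (hd : ∀ x, Cl C x → ¬ Cl B x) (hm : Irr B m) (hm' : Irr C m') :
    ∑ χ ∈ irrs ⊤, dd B m χ * dd C m' χ = 0 := by
  have h1 : ∀ g, Irr C g → ∑ χ ∈ irrs ⊤, dd B m χ * iz C χ g = 0 := fun g hg => by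
    rw [← iz_of_eq (n := 0) ((h.ip_eta hd hm g).trans Int.cast_zero.symm),
      iz_eq_sum (vchr_eta hm) le_top hg.vchr]
    exact Finset.sum_congr rfl fun χ hχ => by rw [iz_of_eq (SCS.ip_eta hm (mem_irrs.1 hχ))]
  simp only [dd, mul_sub] at h1 ⊢
  rw [Finset.sum_sub_distrib, h1 _ (irr_one C), h1 _ hm', sub_self]

namespace Ex
variable (h : Ex A θ ν δ)
include h

theorem ip_B (hd : ∀ x, Cl B x → ¬ Cl A x) (hl : l ∈ Lam A) (hm : Irr B m) :
    (if m = one B then 1 else 0) + δ * (iz B θ m - iz B (ν l) m) = 0 := by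
  have := h.sc.ip_eta hd (mem_Lam.1 hl).2 m
  rw [h.eq l hl, ip_add_left, ip_smul_left, ip_sub_left, ip_one_top hm,
    ← iz_eq h.iθ.vchr le_top hm.vchr, ← iz_eq (h.iν l hl).vchr le_top hm.vchr] at this
  exact_mod_cast this

theorem sum_ge (f : (G → ℂ) → ℤ) (hf : ∀ χ, 0 ≤ f χ) {c : ℤ} (hc : ∀ l ∈ Lam A, f (ν l) = c) :
    f (one ⊤) + (f θ + ((Lam A).image ν).card * c) ≤ ∑ χ ∈ irrs ⊤, f χ := by
  have h1 : θ ∉ (Lam A).image ν := fun e => by
    obtain ⟨l, hl, e⟩ := Finset.mem_image.1 e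
    exact h.νθ l hl e
  have h2 : one ⊤ ∉ insert θ ((Lam A).image ν) := fun e => by
    rcases Finset.mem_insert.1 e with e | e
    · exact h.θ1 e.symm
    · obtain ⟨l, hl, e⟩ := Finset.mem_image.1 e
      exact h.ν1 l hl e
  refine le_trans (le_of_eq ?_) (Finset.sum_le_sum_of_subset_of_nonneg
    (s := insert (one ⊤) (insert θ ((Lam A).image ν))) (fun χ hχ => mem_irrs.2 ?_) fun χ _ _ => hf χ)
  · rw [Finset.sum_insert h2, Finset.sum_insert h1, Finset.sum_congr rfl (g := fun _ => c),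
      Finset.sum_const, nsmul_eq_mul]
    intro χ hχ
    obtain ⟨l, hl, rfl⟩ := Finset.mem_image.1 hχ
    exact hc l hl
  · rcases Finset.mem_insert.1 hχ with rfl | e
    · exact irr_one ⊤
    rcases Finset.mem_insert.1 e with rfl | e
    · exact h.iθ
    · obtain ⟨l, hl, rfl⟩ := Finset.mem_image.1 e
      exact h.iν l hl

theorem typ (hB : SC B) (e4 : ee B = 4) (hd : ∀ x, Cl B x → ¬ Cl A x) (hm : m ∈ Lam B) :
    ∃ w : ℤ, (∀ x, Cl B x → th δ θ x = w - 1) ∧ (Nat.card B : ℤ) ∣ th δ θ 1 - (w - 1) ∧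
      (∀ l ∈ Lam A, dd B m (ν l) = δ * w) ∧ (w = 0 ∨ w = 1 ∧ Nat.card A ≤ 9) := by
  have h0 : ∀ l ∈ Lam A, ∀ m ∈ Lam B, iz B θ m = iz B (ν l) m := fun l hl m hm => by
    have := h.ip_B hd hl (mem_Lam.1 hm).2
    rw [if_neg (mem_Lam.1 hm).1] at this
    rcases h.sg with rfl | rfl <;> omega
  obtain ⟨h1, h2⟩ := hB.const h.iθ (fun m hm m' hm' => by
    obtain ⟨l, hl⟩ := h.lam
    obtain ⟨μ, ε, hε, -, -, -, h4⟩ := hB.tik.exc
    have k1 := h4 _ h.iθ m hm m' hm'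
    have k2 := h4 _ (h.iν l hl) m hm m' hm'
    rw [← h0 l hl m hm, ← h0 l hl m' hm', k1] at k2
    have k3 := h.νθ l hl
    rcases hε with rfl | rfl <;> split_ifs at k1 k2 <;> first | omega | simp_all) hm
  have h3 : ∀ l ∈ Lam A, dd B m (ν l) = δ * (δ * dd B m θ + 1) := fun l hl => by
    have k1 := h.ip_B hd hl (irr_one B)
    have k2 := h0 l hl m hm
    simp only [dd, if_true] at k1 ⊢
    rcases h.sg with rfl | rfl <;> omega
  refine ⟨δ * dd B m θ + 1, fun x hx => Int.cast_injective (α := ℂ) (by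
    rw [← h.th_eq, h1 x hx]; simp), ⟨δ * iz B θ m, Int.cast_injective (α := ℂ) ?_⟩, h3, ?_⟩
  · push_cast
    rw [← h.th_eq, h2]; ring
  have k1 := h.sum_ge (fun χ => dd B m χ ^ 2) (fun _ => sq_nonneg _)
    (c := (δ * (δ * dd B m θ + 1)) ^ 2) fun l hl => by rw [h3 l hl]
  have k2 : ∑ χ ∈ irrs ⊤, dd B m χ ^ 2 = 5 := (hB.tik.sum_sq hm).trans (by
    rw [show B.relIndex (Nor B) = 4 from e4]; rfl)
  have k3 := h.card
  have k4 := h.n5
  simp only [k2, dd_one hm] at k1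
  generalize dd B m θ = d at *
  generalize ((Lam A).image ν).card = r at *
  have k5 : d ^ 2 ≤ 4 := by nlinarith [mul_nonneg (Int.natCast_nonneg r) (sq_nonneg (δ * (δ * d + 1)))]
  have k6 : -2 ≤ d ∧ d ≤ 2 := by constructor <;> nlinarith
  obtain ⟨k6, k7⟩ := k6
  rcases h.sg with rfl | rfl <;> interval_cases d <;> omega

theorem not_both (hB : SC B) (hC : SC C) (eB : ee B = 4) (eC : ee C = 4)
    (hd : ∀ x, Cl C x → ¬ Cl B x) (hm : m ∈ Lam B) (hm' : m' ∈ Lam C)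
    (h1 : ∀ l ∈ Lam A, dd B m (ν l) = δ * 1) (h2 : ∀ l ∈ Lam A, dd C m' (ν l) = δ * 1) : False := by
  have k1 := h.sum_ge (fun χ => (dd B m χ + dd C m' χ) ^ 2) (fun _ => sq_nonneg _)
    (c := 4) fun l hl => by rw [h1 l hl, h2 l hl]; rcases h.sg with rfl | rfl <;> rfl
  have k2 : ∑ χ ∈ irrs ⊤, dd B m χ ^ 2 = 5 := (hB.tik.sum_sq hm).trans (by
    rw [show B.relIndex (Nor B) = 4 from eB]; rfl)
  have k3 : ∑ χ ∈ irrs ⊤, dd C m' χ ^ 2 = 5 := (hC.tik.sum_sq hm').trans (by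
    rw [show C.relIndex (Nor C) = 4 from eC]; rfl)
  have k4 := h.card
  have k5 := h.n5
  simp only [add_sq, Finset.sum_add_distrib, mul_assoc, ← Finset.mul_sum, k2, k3, dd_one hm,
    dd_one hm', hB.orth hd (mem_Lam.1 hm).2 (mem_Lam.1 hm').2] at k1
  have k6 : (2 : ℤ) ≤ ((Lam A).image ν).card := by omega
  nlinarith [sq_nonneg (dd B m θ + dd C m' θ)]

end Ex

end SCS
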